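import Mathlib
import Groth.Agent.Lib.LeftInv.Jacobian

/-!
Derivations detect the cotangent space of a prime with formally smooth residue field, and families
of elements of a prime are either separated by derivations or satisfy a relation.
-/

set_option autoImplicit false

universe u

open TensorProduct KaehlerDifferential IsLocalRing

namespace Groth.Agent.NeronH7

variable {R B : Type u} [CommRing R] [CommRing B] [Algebra R B]

/-- Element of a localised ideal, on elements. -/
theorem mem_map_atPrime_iff (P : Ideal B) [P.IsPrime] (J : Ideal B) (x : B) :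
    algebraMap B (Localization.AtPrime P) x ∈ J.map (algebraMap B (Localization.AtPrime P)) ↔
      ∃ t, t ∉ P ∧ t * x ∈ J :=
  IsLocalization.algebraMap_mem_map_algebraMap_iff P.primeCompl (Localization.AtPrime P) J x

/-- If all derivations kill `x` modulo `P`, so does every derivation with values in any module killed
by `P`. -/
theorem derivation_mem_of_forall [Module.Projective B Ω[B⁄R]] {M : Type*} [AddCommGroup M] [Module B M]
    [Module R M] [IsScalarTower R B M] (N : Submodule B M) (P : Ideal B) (hPN : ∀ p ∈ P, ∀ m : M, p • m ∈ N)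
    (d : Derivation R B M) (x : B) (h : ∀ s : Derivation R B B, s x ∈ P) : d x ∈ N := by
  classical
  obtain ⟨P0, hP0⟩ := Module.projective_def.1 ‹Module.Projective B Ω[B⁄R]›
  rw [← Derivation.liftKaehlerDifferential_comp_D d x, ← hP0 (KaehlerDifferential.D R B x),
    Finsupp.linearCombination_apply, Finsupp.sum, map_sum]
  refine Submodule.sum_mem _ fun s _ => ?_
  rw [id_eq, map_smul]
  exact hPN _ (h (((Finsupp.lapply s).comp P0).compDer (KaehlerDifferential.D R B))) _

/-- A section of `E → κ`, from formal smoothness of `κ` over a quotient `k` of `R`. -/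
theorem exists_section {k E κ : Type u} [CommRing k] [Algebra R k] [CommRing E] [Algebra R E]
    [CommRing κ] [Algebra R κ] [Algebra k E] [IsScalarTower R k E] [Algebra k κ] [IsScalarTower R k κ]
    (hk : Function.Surjective (algebraMap R k)) [Algebra.FormallySmooth k κ]
    (g : E →ₐ[R] κ) (hg : Function.Surjective g) (hsq : ∀ a b : E, g a = 0 → g b = 0 → a * b = 0) :
    ∃ σ : κ →ₐ[R] E, ∀ z, g (σ z) = z := by
  let gk : E →ₐ[k] κ :=
    { g.toRingHom with
      commutes' := fun c => by
        obtain ⟨r, rfl⟩ := hk c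
        rw [← IsScalarTower.algebraMap_apply, ← IsScalarTower.algebraMap_apply]
        exact g.commutes r }
  have hnil : IsNilpotent (RingHom.ker (gk : E →+* κ)) := by
    refine ⟨2, ?_⟩
    rw [pow_two, Ideal.zero_eq_bot, eq_bot_iff]
    exact Ideal.mul_le.2 fun a ha b hb => (Ideal.mem_bot).2 (hsq a b ha hb)
  exact ⟨(Algebra.FormallySmooth.liftOfSurjective (AlgHom.id k κ) gk hg hnil).restrictScalars R,
    fun z => Algebra.FormallySmooth.liftOfSurjective_apply (AlgHom.id k κ) gk hg hnil z⟩

/-- Derivations detect `P / N` when `κ(P)` lifts to `B_P / N`. -/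
theorem detect [Module.Projective B Ω[B⁄R]] (P : Ideal B) [P.IsPrime]
    (N : Ideal (Localization.AtPrime P)) (hN : N ≤ maximalIdeal (Localization.AtPrime P))
    (hN2 : maximalIdeal (Localization.AtPrime P) ^ 2 ≤ N)
    (σ : (Localization.AtPrime P ⧸ maximalIdeal (Localization.AtPrime P)) →ₐ[R] Localization.AtPrime P ⧸ N)
    (hσ : ∀ z, Ideal.Quotient.factor hN (σ z) = z)
    (x : B) (hx : x ∈ P) (h : ∀ s : Derivation R B B, s x ∈ P) :
    algebraMap B (Localization.AtPrime P) x ∈ N := by
  classical
  let Bp := Localization.AtPrime P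
  let E := Bp ⧸ N
  let e : B →+* E := (Ideal.Quotient.mk N).comp (algebraMap B Bp)
  let r : B →+* Bp ⧸ maximalIdeal Bp := (Ideal.Quotient.mk _).comp (algebraMap B Bp)
  let V : Ideal E := (maximalIdeal Bp).map (Ideal.Quotient.mk N)
  have hVV : ∀ a ∈ V, ∀ b ∈ V, a * b = 0 := by
    intro a ha b hb
    obtain ⟨a, ha', rfl⟩ := (Ideal.mem_map_iff_of_surjective _ Ideal.Quotient.mk_surjective).1 ha
    obtain ⟨b, hb', rfl⟩ := (Ideal.mem_map_iff_of_surjective _ Ideal.Quotient.mk_surjective).1 hb
    rw [← map_mul, Ideal.Quotient.eq_zero_iff_mem]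
    exact hN2 (pow_two (maximalIdeal Bp) ▸ Ideal.mul_mem_mul ha' hb')
  have hker : ∀ a : E, Ideal.Quotient.factor hN a = 0 → a ∈ V := by
    intro a ha
    obtain ⟨a, rfl⟩ := Ideal.Quotient.mk_surjective a
    rw [Ideal.Quotient.factor_mk, Ideal.Quotient.eq_zero_iff_mem] at ha
    exact Ideal.mem_map_of_mem _ ha
  have hε : ∀ b, e b - σ (r b) ∈ V := by
    intro b
    refine hker _ ?_
    rw [map_sub, hσ, sub_eq_zero]
    exact Ideal.Quotient.factor_mk hN _
  have hsm : ∀ (a : B) (z : E), a • z = e a * z := fun a z => by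
    obtain ⟨z, rfl⟩ := Ideal.Quotient.mk_surjective z
    show Ideal.Quotient.mk N (a • z) = e a * Ideal.Quotient.mk N z
    rw [Algebra.smul_def, map_mul]
    rfl
  have hsmR : ∀ (a : R) (z : E), a • z = algebraMap R E a * z := fun a z => by
    obtain ⟨z, rfl⟩ := Ideal.Quotient.mk_surjective z
    show Ideal.Quotient.mk N (a • z) = algebraMap R E a * Ideal.Quotient.mk N z
    rw [Algebra.smul_def, map_mul]
    rfl
  let εl : B →ₗ[R] E :=
    { toFun := fun b => e b - σ (r b)
      map_add' := fun a b => by simp only [map_add]; ring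
      map_smul' := fun c b => by
        simp only [RingHom.id_apply, hsmR]
        rw [Algebra.smul_def c b, map_mul, map_mul]
        rw [show r (algebraMap R B c) = algebraMap R _ c by
            show Ideal.Quotient.mk _ (algebraMap B Bp (algebraMap R B c)) = _
            rw [← IsScalarTower.algebraMap_apply R B Bp]; rfl,
          map_mul σ, σ.commutes,
          show e (algebraMap R B c) = algebraMap R E c from (IsScalarTower.algebraMap_apply R B E c).symm]
        ring }
  let ε : Derivation R B E := Derivation.mk' εl fun a b => by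
    show e (a * b) - σ (r (a * b)) = a • (e b - σ (r b)) + b • (e a - σ (r a))
    rw [hsm, hsm]
    have := hVV _ (hε a) _ (hε b)
    simp only [map_mul]
    linear_combination (-1 : E) * this
  let ε' : Derivation R B V :=
    Derivation.mk' { toFun := fun b => ⟨ε b, hε b⟩, map_add' := fun a b => Subtype.ext (map_add ε a b),
                     map_smul' := fun c b => Subtype.ext (ε.map_smul c b) }
      fun a b => Subtype.ext (ε.leibniz a b)
  have h0 : ε' x ∈ (⊥ : Submodule B V) := by
    refine derivation_mem_of_forall ⊥ P (fun p hp m => (Submodule.mem_bot B).2 (Subtype.ext ?_)) ε' x h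
    show p • (m : E) = 0
    rw [hsm]
    refine hVV _ (Ideal.mem_map_of_mem _ ?_) _ m.2
    rw [← Localization.AtPrime.map_eq_maximalIdeal]
    exact Ideal.mem_map_of_mem _ hp
  have h1 : e x - σ (r x) = 0 := congrArg Subtype.val ((Submodule.mem_bot B).1 h0)
  have h2 : r x = 0 := by
    refine Ideal.Quotient.eq_zero_iff_mem.2 ?_
    rw [← Localization.AtPrime.map_eq_maximalIdeal]
    exact Ideal.mem_map_of_mem _ hx
  rw [h2, map_zero, sub_zero] at h1
  exact Ideal.Quotient.eq_zero_iff_mem.1 h1

/-- Elements of a prime: derivations separate them, or there is a relation modulo what derivations see. -/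
theorem exists_det_or_relation (P : Ideal B) [P.IsPrime] {m : ℕ} (f : Fin m → B) (hf : ∀ i, f i ∈ P) :
    (∃ D : Fin m → Derivation R B B, Matrix.det (Matrix.of fun i j => D j (f i)) ∉ P) ∨
    ∃ (b : Fin m → B) (k : Fin m), b k ∉ P ∧ ∀ s : Derivation R B B, s (∑ i, b i * f i) ∈ P := by
  classical
  let K := FractionRing (B ⧸ P)
  let ι : B →+* K := (algebraMap (B ⧸ P) K).comp (Ideal.Quotient.mk P)
  have hι : ∀ z, ι z = 0 ↔ z ∈ P := fun z => by
    rw [RingHom.comp_apply, (IsFractionRing.injective (B ⧸ P) K).eq_iff' (map_zero _),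
      Ideal.Quotient.eq_zero_iff_mem]
  let v : Fin m → Derivation R B B → K := fun i s => ι (s (f i))
  by_cases hv : LinearIndependent K v
  · obtain ⟨s, hs⟩ := LeftInv.exists_columns_det_ne_zero v hv
    refine Or.inl ⟨s, fun hbad => hs ?_⟩
    have e : (Matrix.of fun i j => v i (s j)) = ι.mapMatrix (Matrix.of fun i j => s j (f i)) := rfl
    rw [e, ← RingHom.map_det, hι]
    exact hbad
  · rw [← LinearIndependent.iff_fractionRing (R := B ⧸ P), Fintype.linearIndependent_iff] at hv
    push Not at hv
    obtain ⟨g, hg, k, hk⟩ := hv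
    choose a ha using fun i => Ideal.Quotient.mk_surjective (g i)
    refine Or.inr ⟨a, k, fun hbad => hk (by rw [← ha k, Ideal.Quotient.eq_zero_iff_mem.2 hbad]), fun s => ?_⟩
    have h1 : ∑ i, a i * s (f i) ∈ P := by
      rw [← hι]
      have := congrFun hg s
      rw [Finset.sum_apply] at this
      rw [map_sum]
      refine Eq.trans (Finset.sum_congr rfl fun i _ => ?_) (this.trans rfl)
      rw [map_mul, Pi.smul_apply, ← ha, Algebra.smul_def]
      rfl
    rw [map_sum]
    simp only [Derivation.leibniz, smul_eq_mul, Finset.sum_add_distrib]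
    exact P.add_mem h1 (P.sum_mem fun i _ => P.mul_mem_right _ (hf i))

/-- Parameters at a prime `P` next to a constant `c`, with nondegenerate derivations. -/
theorem exists_param [IsNoetherianRing B] (P : Ideal B) [P.IsPrime] (c : B) (hc : c ∈ P)
    (hdet : ∀ x ∈ P, (∀ s : Derivation R B B, s x ∈ P) →
      algebraMap B (Localization.AtPrime P) x ∈ maximalIdeal (Localization.AtPrime P) ^ 2 ⊔
        Ideal.span {algebraMap B (Localization.AtPrime P) c}) :
    ∃ (e : ℕ) (a : Fin e → B) (D : Fin e → Derivation R B B), (∀ i, a i ∈ P) ∧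
      (∀ x ∈ P, ∃ t, t ∉ P ∧ t * x ∈ Ideal.span (insert c (Set.range a))) ∧
      Matrix.det (Matrix.of fun i j => D j (a i)) ∉ P := by
  classical
  let Gen : ℕ → Prop := fun n => ∃ a : Fin n → B, (∀ i, a i ∈ P) ∧
    ∀ x ∈ P, ∃ t, t ∉ P ∧ t * x ∈ Ideal.span (insert c (Set.range a))
  have hex : ∃ n, Gen n := by
    obtain ⟨n, a, ha⟩ := Submodule.fg_iff_exists_fin_generating_family.mp (IsNoetherian.noetherian P)
    exact ⟨n, a, fun i => ha ▸ Submodule.subset_span ⟨i, rfl⟩, fun x hx =>
      ⟨1, P.primeCompl.one_mem, by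
        rw [one_mul]
        exact Ideal.span_mono (Set.subset_insert _ _) (by rw [Ideal.span, ha]; exact hx)⟩⟩
  obtain ⟨m, ⟨a, haP, hgen⟩, hmin⟩ : ∃ m, Gen m ∧ ∀ n < m, ¬ Gen n :=
    ⟨_, Nat.find_spec hex, fun n => Nat.find_min hex⟩
  rcases exists_det_or_relation (R := R) P a haP with ⟨D, hD⟩ | ⟨b, k, hbk, hrel⟩
  · exact ⟨m, a, D, haP, hgen, hD⟩
  exfalso
  let Bp := Localization.AtPrime P
  let ι := algebraMap B Bp
  let M := maximalIdeal Bp
  let S : Ideal Bp := Ideal.span (insert (ι c) (Set.range fun i => ι (a i)))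
  let T : Ideal Bp := Ideal.span (insert (ι c) ((fun i => ι (a i)) '' {i | i ≠ k}))
  have hMS : M ≤ S := by
    show maximalIdeal Bp ≤ S
    rw [← Localization.AtPrime.map_eq_maximalIdeal, Ideal.map_le_iff_le_comap]
    intro z hz
    obtain ⟨t, ht, htz⟩ := hgen z hz
    have h5 : ι (t * z) ∈ S := by
      have := Ideal.mem_map_of_mem ι htz
      rwa [Ideal.map_span, Set.image_insert_eq, ← Set.range_comp] at this
    rw [map_mul] at h5
    exact (Ideal.unit_mul_mem_iff_mem _ (IsLocalization.map_units Bp (⟨t, ht⟩ : P.primeCompl))).mp h5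
  have hx : ι (∑ i, b i * a i) ∈ T ⊔ M • S := by
    have h1 := hdet _ (P.sum_mem fun i _ => P.mul_mem_left _ (haP i)) hrel
    refine (sup_le ?_ ?_ : M ^ 2 ⊔ Ideal.span {ι c} ≤ _) h1
    · rw [pow_two]
      exact le_trans (Ideal.mul_mono le_rfl hMS) le_sup_right
    · exact le_trans (Ideal.span_mono (Set.singleton_subset_iff.2 (Set.mem_insert _ _))) le_sup_left
  have hST : S ≤ T ⊔ M • S := by
    rw [Ideal.span_le]
    rintro _ (rfl | ⟨i, rfl⟩)
    · exact Submodule.mem_sup_left (Ideal.subset_span (Set.mem_insert _ _))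
    by_cases hi : i = k
    · subst hi
      have hu : IsUnit (ι (b i)) := IsLocalization.map_units Bp (⟨b i, hbk⟩ : P.primeCompl)
      refine (Ideal.unit_mul_mem_iff_mem _ hu).mp ?_
      have hsum : ι (b i) * ι (a i) =
          ι (∑ j, b j * a j) - ∑ j ∈ Finset.univ.erase i, ι (b j) * ι (a j) := by
        rw [eq_sub_iff_add_eq, Finset.add_sum_erase _ (fun j => ι (b j) * ι (a j)) (Finset.mem_univ i)]
        simp
      rw [hsum]
      refine Submodule.sub_mem _ hx (Submodule.sum_mem _ fun j hj => Submodule.mem_sup_left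
        (T.mul_mem_left _ (Ideal.subset_span (Or.inr ⟨j, Finset.ne_of_mem_erase hj, rfl⟩))))
    · exact Submodule.mem_sup_left (Ideal.subset_span (Or.inr ⟨i, hi, rfl⟩))
  have hSfg : S.FG := Submodule.fg_span ((Set.finite_range _).insert _)
  have hle : S ≤ T := Submodule.le_of_le_smul_of_le_jacobson_bot hSfg
    (IsLocalRing.maximalIdeal_le_jacobson _) hST
  obtain ⟨n, hn⟩ : ∃ n, m = n + 1 := ⟨m - 1, by have := k.2; omega⟩
  subst hn
  refine hmin n (by omega) ⟨a ∘ k.succAbove, fun i => haP _, fun z hz => ?_⟩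
  refine (mem_map_atPrime_iff P _ z).1 (?_ : ι z ∈ _)
  have h8 : T ≤ (Ideal.span (insert c (Set.range (a ∘ k.succAbove)))).map ι := by
    rw [Ideal.map_span, Ideal.span_le]
    rintro _ (rfl | ⟨i, hi, rfl⟩)
    · exact Ideal.subset_span ⟨c, Set.mem_insert _ _, rfl⟩
    · obtain ⟨j, rfl⟩ := Fin.exists_succAbove_eq (x := i) (y := k) hi
      exact Ideal.subset_span ⟨_, Set.mem_insert_of_mem _ ⟨j, rfl⟩, rfl⟩
  refine h8 (hle (hMS ?_))
  show ι z ∈ maximalIdeal Bp
  rw [← Localization.AtPrime.map_eq_maximalIdeal]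
  exact Ideal.mem_map_of_mem _ hz

end Groth.Agent.NeronH7
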