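import Mathlib
import Groth.Agent.Lib.NeronH7.Detect

/-!
Néron's blow-up of a smooth algebra along the prime over the maximal ideal.
-/

set_option autoImplicit false

universe u

open IsLocalRing TrivSqZeroExt

namespace Groth.Agent.NeronH7

/-- The dual number with given components. -/
def dn {S : Type u} (x y : S) : DualNumber S := (x, y)

theorem fst_dn {S : Type u} (x y : S) : fst (dn x y) = x := rfl

theorem snd_dn {S : Type u} (x y : S) : snd (dn x y) = y := rfl

/-- The homomorphism into dual numbers attached to a derivation. -/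
def dualHom {R A S : Type u} [CommRing R] [CommRing A] [Algebra R A] [CommRing S] [Algebra R S]
    [Algebra A S] (d : Derivation R A S) : A →+* DualNumber S where
  toFun a := dn (algebraMap A S a) (d a)
  map_one' := TrivSqZeroExt.ext (map_one _) d.map_one_eq_zero
  map_zero' := TrivSqZeroExt.ext (map_zero _) (map_zero d)
  map_add' x y := TrivSqZeroExt.ext (map_add _ x y) (map_add d x y)
  map_mul' x y := TrivSqZeroExt.ext (map_mul _ x y) (by
    rw [DualNumber.snd_mul]
    simp only [fst_dn, snd_dn, d.leibniz, Algebra.smul_def]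
    ring)

theorem fst_dualHom {R A S : Type u} [CommRing R] [CommRing A] [Algebra R A] [CommRing S] [Algebra R S]
    [Algebra A S] (d : Derivation R A S) (a : A) : fst (dualHom d a) = algebraMap A S a := rfl

theorem snd_dualHom {R A S : Type u} [CommRing R] [CommRing A] [Algebra R A] [CommRing S] [Algebra R S]
    [Algebra A S] (d : Derivation R A S) (a : A) : snd (dualHom d a) = d a := rfl

/-- The derivation attached to a homomorphism into dual numbers. -/
def derivOfDual {R A S : Type u} [CommRing R] [CommRing A] [Algebra R A] [CommRing S] [Algebra R S]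
    [Algebra A S] [IsScalarTower R A S] (Φ : A →+* DualNumber S) (h1 : ∀ a, fst (Φ a) = algebraMap A S a)
    (h2 : ∀ r, snd (Φ (algebraMap R A r)) = 0) : Derivation R A S :=
  Derivation.mk'
    { toFun := fun a => snd (Φ a)
      map_add' := fun x y => by simp
      map_smul' := fun r x => by
        rw [RingHom.id_apply, Algebra.smul_def, map_mul, DualNumber.snd_mul, h2, h1,
          ← IsScalarTower.algebraMap_apply, zero_mul, add_zero, Algebra.smul_def] }
    fun a b => by
      show snd (Φ (a * b)) = a • snd (Φ b) + b • snd (Φ a)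
      rw [map_mul, DualNumber.snd_mul, h1, h1, Algebra.smul_def, Algebra.smul_def]
      ring

theorem derivOfDual_apply {R A S : Type u} [CommRing R] [CommRing A] [Algebra R A] [CommRing S] [Algebra R S]
    [Algebra A S] [IsScalarTower R A S] (Φ : A →+* DualNumber S) (h1 : ∀ a, fst (Φ a) = algebraMap A S a)
    (h2 : ∀ r, snd (Φ (algebraMap R A r)) = 0) (a : A) : derivOfDual Φ h1 h2 a = snd (Φ a) := rfl

/-- A derivation applied to the coefficients of polynomials. -/
theorem exists_mapCoeffs {R B : Type u} {σ : Type} [CommRing R] [CommRing B] [Algebra R B] (d : Derivation R B B) :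
    ∃ E : Derivation R (MvPolynomial σ B) (MvPolynomial σ B),
      (∀ b, E (MvPolynomial.C b) = MvPolynomial.C (d b)) ∧ ∀ i, E (MvPolynomial.X i) = 0 := by
  let A := MvPolynomial σ B
  let d' : Derivation R B A := (Algebra.linearMap B A).compDer d
  let Φ : A →+* DualNumber A := MvPolynomial.eval₂Hom (dualHom d') fun i => dn (MvPolynomial.X i) 0
  have h1 : ∀ a, fst (Φ a) = algebraMap A A a := fun a => by
    induction a using MvPolynomial.induction_on with
    | C b =>
      rw [show Φ (MvPolynomial.C b) = dualHom d' b from MvPolynomial.eval₂Hom_C _ _ b, fst_dualHom]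
      rfl
    | add p q hp hq => simp only [map_add, fst_add, hp, hq]
    | mul_X p i hp =>
      rw [map_mul, fst_mul, hp, show Φ (MvPolynomial.X i) = _ from MvPolynomial.eval₂Hom_X' _ _ i, fst_dn,
        map_mul]
      rfl
  have hC : ∀ b, snd (Φ (MvPolynomial.C b)) = MvPolynomial.C (d b) := fun b => by
    rw [show Φ (MvPolynomial.C b) = dualHom d' b from MvPolynomial.eval₂Hom_C _ _ b, snd_dualHom]
    rfl
  refine ⟨derivOfDual Φ h1 fun r => ?_, fun b => hC b, fun i => ?_⟩
  · show snd (Φ (MvPolynomial.C (algebraMap R B r))) = 0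
    rw [hC, d.map_algebraMap, map_zero]
  · show snd (Φ (MvPolynomial.X i)) = 0
    rw [show Φ (MvPolynomial.X i) = _ from MvPolynomial.eval₂Hom_X' _ _ i, snd_dn]

variable {R Λ B : Type u} [CommRing R] [CommRing Λ] [IsLocalRing Λ] [IsDomain Λ]
  [CommRing B] [Algebra R B] [Algebra R Λ] [Algebra B Λ] [IsScalarTower R B Λ]

/-- The blow-up step. -/
theorem step [IsNoetherianRing R] [Algebra.Smooth R B] (ϖ : R)
    (hm : maximalIdeal Λ = Ideal.span {algebraMap R Λ ϖ}) {e : ℕ} (a : Fin e → B)
    (ha : ∀ i, algebraMap B Λ (a i) ∈ maximalIdeal Λ) (E : Fin e → Derivation R B B)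
    (hdet : algebraMap B Λ (Matrix.det (Matrix.of fun i j => E j (a i))) ∉ maximalIdeal Λ) :
    ∃ (B' : Type u) (_ : CommRing B') (_ : Algebra R B') (_ : Algebra B' Λ) (_ : IsScalarTower R B' Λ)
      (_ : Algebra.Smooth R B') (ψ : B →ₐ[R] B'),
      (∀ b, algebraMap B' Λ (ψ b) = algebraMap B Λ b) ∧
      (∀ x ∈ Ideal.span (insert (algebraMap R B ϖ) (Set.range a)), ∃ g, ψ x = algebraMap R B' ϖ * g) ∧
      (∀ D : Derivation R B Λ, ∃ D' : Derivation R B' Λ, ∀ b, D' (ψ b) = algebraMap R Λ ϖ * D b) ∧
      (∀ b' : B', ∃ (s : B') (n : ℕ) (b : B), algebraMap B' Λ s ∉ maximalIdeal Λ ∧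
        algebraMap R B' ϖ ^ n * s * b' = ψ b) := by
  classical
  haveI : IsNoetherianRing B := Algebra.FiniteType.isNoetherianRing R B
  choose c hc using fun i => Ideal.mem_span_singleton'.1 (hm ▸ ha i : algebraMap B Λ (a i) ∈ Ideal.span {algebraMap R Λ ϖ})
  let A := MvPolynomial (Fin e) B
  let f : Fin e → A := fun i => algebraMap R A ϖ * MvPolynomial.X i - MvPolynomial.C (a i)
  let J := Ideal.span (Set.range f)
  let C₁ := A ⧸ J
  let ev : A →ₐ[B] Λ := MvPolynomial.aeval c
  have hev : ∀ r : R, ev (algebraMap R A r) = algebraMap R Λ r := fun r => by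
    rw [IsScalarTower.algebraMap_apply R B A, ev.commutes, ← IsScalarTower.algebraMap_apply]
  have hf : ∀ i, ev (f i) = 0 := fun i => by
    rw [map_sub, map_mul, hev, show ev (MvPolynomial.X i) = c i from MvPolynomial.aeval_X _ _,
      show ev (MvPolynomial.C (a i)) = algebraMap B Λ (a i) from ev.commutes _, mul_comm, hc, sub_self]
  have hJ : ∀ p ∈ J, ev p = 0 := fun p hp =>
    RingHom.mem_ker.1 (Ideal.span_le.2 (Set.range_subset_iff.2 fun i => RingHom.mem_ker.2 (hf i)) hp :
      p ∈ RingHom.ker ev.toRingHom)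
  let γ : C₁ →+* Λ := Ideal.Quotient.lift J ev.toRingHom hJ
  let p : Ideal C₁ := (maximalIdeal Λ).comap γ
  haveI : p.IsPrime := Ideal.IsPrime.comap _
  haveI : Algebra.FormallySmooth R A := Algebra.FormallySmooth.comp R B A
  haveI : IsNoetherianRing A := inferInstance
  haveI hFS : Algebra.FormallySmooth R (Localization.AtPrime p) := by
    choose EA hEC hEX using fun j => exists_mapCoeffs (R := R) (σ := Fin e) (E j)
    refine (LeftInv.formallySmooth_localization_iff_jacobian (A := R) (B := A) Ideal.Quotient.mk_surjective p).2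
      ⟨e, f, EA, fun i => RingHom.mem_ker.2 (Ideal.Quotient.eq_zero_iff_mem.2 (Ideal.subset_span ⟨i, rfl⟩)),
        fun x hx => ⟨1, ?_, ?_⟩, fun h => hdet ?_⟩
    · rw [map_one]
      exact p.primeCompl.one_mem
    · rw [one_mul]
      exact Ideal.Quotient.eq_zero_iff_mem.1 (RingHom.mem_ker.1 hx)
    · have e1 : (Matrix.of fun i j => EA j (f i)) =
          -((MvPolynomial.C : B →+* A).mapMatrix (Matrix.of fun i j => E j (a i))) := by
        ext1 i j
        show EA j (f i) = -(MvPolynomial.C (E j (a i)))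
        have h0 : EA j (algebraMap R A ϖ) = 0 := (EA j).map_algebraMap ϖ
        rw [map_sub, Derivation.leibniz, hEX, h0, smul_zero, smul_zero, add_zero, zero_sub, hEC]
      have h' : ev (Matrix.det (Matrix.of fun i j => EA j (f i))) ∈ maximalIdeal Λ := h
      rw [e1, Matrix.det_neg, ← RingHom.map_det, map_mul] at h'
      rw [show ev (MvPolynomial.C _) = _ from ev.commutes (Matrix.det (Matrix.of fun i j => E j (a i)))] at h'
      refine (Ideal.unit_mul_mem_iff_mem _ ?_).1 h'
      rw [map_pow, map_neg, map_one]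
      exact isUnit_one.neg.pow _
  haveI : Algebra.FinitePresentation R A := Algebra.FinitePresentation.trans R B A
  haveI : Algebra.FinitePresentation R C₁ :=
    Algebra.FinitePresentation.quotient (Submodule.fg_span (Set.finite_range f))
  obtain ⟨t, ht, hts⟩ := Algebra.IsSmoothAt.exists_notMem_smooth (R := R) p
  let B' := Localization.Away t
  have htu : IsUnit (γ t) := by
    by_contra h
    exact ht ((IsLocalRing.mem_maximalIdeal (γ t)).2 h)
  let β' : B' →+* Λ := IsLocalization.Away.lift t htu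
  have hβ' : ∀ q : A, β' (algebraMap C₁ B' (Ideal.Quotient.mk J q)) = ev q := fun q =>
    (IsLocalization.Away.lift_eq t htu _).trans rfl
  letI : Algebra B' Λ := β'.toAlgebra
  let ψ : B →ₐ[R] B' :=
    ((IsScalarTower.toAlgHom R C₁ B').comp (Ideal.Quotient.mkₐ R J)).comp (IsScalarTower.toAlgHom R B A)
  have hψ : ∀ b, ψ b = algebraMap C₁ B' (Ideal.Quotient.mk J (MvPolynomial.C b)) := fun b => rfl
  have hψβ : ∀ b, β' (ψ b) = algebraMap B Λ b := fun b => by rw [hψ, hβ']; exact ev.commutes b
  haveI : IsScalarTower R B' Λ := IsScalarTower.of_algebraMap_eq fun r => by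
    show algebraMap R Λ r = β' (algebraMap R B' r)
    rw [← ψ.commutes, hψβ, ← IsScalarTower.algebraMap_apply]
  have hy : ∀ i, ψ (a i) = algebraMap R B' ϖ * algebraMap C₁ B' (Ideal.Quotient.mk J (MvPolynomial.X i)) := by
    intro i
    have h0 : Ideal.Quotient.mk J (f i) = 0 := Ideal.Quotient.eq_zero_iff_mem.2 (Ideal.subset_span ⟨i, rfl⟩)
    rw [map_sub, map_mul, sub_eq_zero] at h0
    rw [hψ, ← h0, map_mul, IsScalarTower.algebraMap_apply R C₁ B']
    rfl
  refine ⟨B', inferInstance, inferInstance, inferInstance, inferInstance, hts, ψ, hψβ, ?_, ?_, ?_⟩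
  · intro x hx
    have hle : Ideal.span (insert (algebraMap R B ϖ) (Set.range a)) ≤
        (Ideal.span {algebraMap R B' ϖ}).comap ψ.toRingHom := by
      rw [Ideal.span_le]
      rintro _ (rfl | ⟨i, rfl⟩)
      · show ψ (algebraMap R B ϖ) ∈ Ideal.span {algebraMap R B' ϖ}
        rw [ψ.commutes]
        exact Ideal.mem_span_singleton_self _
      · show ψ (a i) ∈ Ideal.span {algebraMap R B' ϖ}
        rw [hy]
        exact Ideal.mul_mem_right _ _ (Ideal.mem_span_singleton_self _)
    obtain ⟨g, hg⟩ := Ideal.mem_span_singleton'.1 (hle hx)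
    exact ⟨g, by rw [mul_comm]; exact hg.symm⟩
  · intro D
    let Dπ : Derivation R B Λ := algebraMap R Λ ϖ • D
    let Φ₀ : A →+* DualNumber Λ := MvPolynomial.eval₂Hom (dualHom Dπ) fun i => dn (c i) (D (a i))
    have hf₀ : ∀ q, fst (Φ₀ q) = ev q := fun q => by
      induction q using MvPolynomial.induction_on with
      | C b =>
        rw [show Φ₀ (MvPolynomial.C b) = _ from MvPolynomial.eval₂Hom_C _ _ b, fst_dualHom]
        exact (ev.commutes b).symm
      | add p q hp hq => simp only [map_add, fst_add, hp, hq]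
      | mul_X p i hp =>
        rw [map_mul, fst_mul, hp, show Φ₀ (MvPolynomial.X i) = _ from MvPolynomial.eval₂Hom_X' _ _ i, fst_dn,
          map_mul, show ev (MvPolynomial.X i) = c i from MvPolynomial.aeval_X _ _]
    have hR : ∀ r, Φ₀ (algebraMap R A r) = inl (algebraMap R Λ r) := fun r => by
      rw [IsScalarTower.algebraMap_apply R B A, MvPolynomial.algebraMap_eq,
        show Φ₀ (MvPolynomial.C _) = _ from MvPolynomial.eval₂Hom_C _ _ _]
      refine TrivSqZeroExt.ext ?_ ?_
      · rw [fst_dualHom, fst_inl, ← IsScalarTower.algebraMap_apply]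
      · rw [snd_dualHom, snd_inl, Dπ.map_algebraMap]
    have hkill : ∀ q ∈ J, Φ₀ q = 0 := fun q hq => RingHom.mem_ker.1 <| Ideal.span_le.2
      (Set.range_subset_iff.2 fun i => RingHom.mem_ker.2 (by
        rw [map_sub, map_mul, hR, sub_eq_zero,
          show Φ₀ (MvPolynomial.X i) = _ from MvPolynomial.eval₂Hom_X' _ _ i,
          show Φ₀ (MvPolynomial.C (a i)) = _ from MvPolynomial.eval₂Hom_C _ _ _]
        refine TrivSqZeroExt.ext ?_ ?_
        · rw [fst_mul, fst_inl, fst_dn, fst_dualHom, ← hc i, mul_comm]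
        · rw [DualNumber.snd_mul, fst_inl, fst_dn, snd_inl, snd_dn, snd_dualHom, zero_mul, add_zero]
          rfl)) hq
    let Φ₁ : C₁ →+* DualNumber Λ := Ideal.Quotient.lift J Φ₀ hkill
    have hf₁ : ∀ q, fst (Φ₁ q) = γ q := fun q => by
      obtain ⟨q, rfl⟩ := Ideal.Quotient.mk_surjective q
      exact hf₀ q
    have hu : IsUnit (Φ₁ t) := TrivSqZeroExt.isUnit_iff_isUnit_fst.2 (by rw [hf₁]; exact htu)
    let Φ : B' →+* DualNumber Λ := IsLocalization.Away.lift t hu
    have hΦ : ∀ q, Φ (algebraMap C₁ B' q) = Φ₁ q := fun q => IsLocalization.Away.lift_eq t hu q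
    have h1 : ∀ x, fst (Φ x) = algebraMap B' Λ x := by
      have : ((TrivSqZeroExt.fstHom Λ Λ Λ).toRingHom).comp Φ = β' := by
        refine IsLocalization.ringHom_ext (Submonoid.powers t) (RingHom.ext fun q => ?_)
        show fst (Φ (algebraMap C₁ B' q)) = β' (algebraMap C₁ B' q)
        rw [hΦ, hf₁]
        exact (IsLocalization.Away.lift_eq t htu q).symm
      exact fun x => RingHom.congr_fun this x
    have hD : ∀ b, snd (Φ (ψ b)) = algebraMap R Λ ϖ * D b := fun b => by
      rw [hψ, hΦ]
      show snd (Φ₀ (MvPolynomial.C b)) = _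
      rw [show Φ₀ (MvPolynomial.C b) = _ from MvPolynomial.eval₂Hom_C _ _ b, snd_dualHom]
      rfl
    refine ⟨derivOfDual Φ h1 (fun r => ?_), fun b => by rw [derivOfDual_apply, hD]⟩
    rw [← ψ.commutes, hD, D.map_algebraMap, mul_zero]
  · intro b'
    obtain ⟨⟨q, s⟩, hqs⟩ := IsLocalization.surj (Submonoid.powers t) b'
    have hA : ∀ q : A, ∃ (n : ℕ) (b : B),
        algebraMap R B' ϖ ^ n * algebraMap C₁ B' (Ideal.Quotient.mk J q) = ψ b := by
      intro q
      induction q using MvPolynomial.induction_on with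
      | C b => exact ⟨0, b, by rw [pow_zero, one_mul, hψ]⟩
      | add p q hp hq =>
        obtain ⟨n, b, hb⟩ := hp
        obtain ⟨m, b₂, hb₂⟩ := hq
        refine ⟨n + m, algebraMap R B ϖ ^ m * b + algebraMap R B ϖ ^ n * b₂, ?_⟩
        simp only [map_add, map_mul, map_pow, AlgHom.commutes, ← hb, ← hb₂]
        ring
      | mul_X p i hp =>
        obtain ⟨n, b, hb⟩ := hp
        refine ⟨n + 1, b * a i, ?_⟩
        rw [map_mul ψ, ← hb, hy, map_mul, map_mul]
        ring
    obtain ⟨q, rfl⟩ := Ideal.Quotient.mk_surjective q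
    obtain ⟨n, b, hb⟩ := hA q
    refine ⟨algebraMap C₁ B' s, n, b, ?_, by rw [← hb, mul_assoc, mul_comm _ b', hqs]⟩
    show β' (algebraMap C₁ B' s) ∉ maximalIdeal Λ
    rw [IsLocalization.Away.lift_eq t htu]
    intro h
    obtain ⟨k, hk⟩ := s.2
    change (s : C₁) ∈ p at h
    rw [← hk] at h
    exact ht (‹p.IsPrime›.mem_of_pow_mem k h)

end Groth.Agent.NeronH7
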