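import Mathlib
import Groth.Agent.Lib.NeronH7.Detect
import Groth.Agent.Lib.Sep.Basic

/-!
The separability hypotheses make derivations detect the primes over the closed and generic points.
-/

set_option autoImplicit false

universe u

open TensorProduct IsLocalRing

namespace Groth.Agent.NeronH7

variable {R Λ B : Type u} [CommRing R] [IsLocalRing R] [CommRing Λ] [IsLocalRing Λ]
  [CommRing B] [Algebra R B] [Algebra R Λ] [Algebra B Λ] [IsScalarTower R B Λ]

theorem detect_closed [Module.Projective B Ω[B⁄R]] [IsLocalHom (algebraMap R Λ)]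
    [Algebra.IsGeometricallyReduced (ResidueField R) (ResidueField Λ)] (ϖ : R)
    (hR : maximalIdeal R = Ideal.span {ϖ})
    (P : Ideal B) [P.IsPrime] (hP : P = (maximalIdeal Λ).comap (algebraMap B Λ))
    (x : B) (hx : x ∈ P) (h : ∀ s : Derivation R B B, s x ∈ P) :
    algebraMap B (Localization.AtPrime P) x ∈ maximalIdeal (Localization.AtPrime P) ^ 2 ⊔
      Ideal.span {algebraMap B (Localization.AtPrime P) (algebraMap R B ϖ)} := by
  classical
  let Bp := Localization.AtPrime P
  let N : Ideal Bp := maximalIdeal Bp ^ 2 ⊔ Ideal.span {algebraMap B Bp (algebraMap R B ϖ)}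
  have hϖP : algebraMap R B ϖ ∈ P := by
    rw [hP, Ideal.mem_comap, ← IsScalarTower.algebraMap_apply]
    exact fun hu => (show ϖ ∈ maximalIdeal R by rw [hR]; exact Ideal.mem_span_singleton_self _)
      (IsUnit.of_map (algebraMap R Λ) ϖ hu)
  have hN : N ≤ maximalIdeal Bp := by
    refine sup_le (Ideal.pow_le_self two_ne_zero) ((Ideal.span_singleton_le_iff_mem (I := maximalIdeal Bp)).2 ?_)
    rw [← Localization.AtPrime.map_eq_maximalIdeal]
    exact Ideal.mem_map_of_mem _ hϖP
  let k := ResidueField R
  let κ := Bp ⧸ maximalIdeal Bp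
  let E := Bp ⧸ N
  letI : Field κ := Ideal.Quotient.field _
  have hkE : ∀ r ∈ maximalIdeal R, algebraMap R E r = 0 := by
    intro r hr
    rw [hR] at hr
    obtain ⟨c, rfl⟩ := Ideal.mem_span_singleton'.1 hr
    rw [map_mul, IsScalarTower.algebraMap_apply R Bp E ϖ, IsScalarTower.algebraMap_apply R B Bp ϖ,
      show algebraMap Bp E (algebraMap B Bp (algebraMap R B ϖ)) = 0 from
        Ideal.Quotient.eq_zero_iff_mem.2 (Submodule.mem_sup_right (Ideal.mem_span_singleton_self _)),
      mul_zero]
  let e₁ : k →+* E := Ideal.Quotient.lift (maximalIdeal R) (algebraMap R E) hkE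
  let e₂ : k →+* κ := (Ideal.Quotient.factor hN).comp e₁
  letI : Algebra k E := e₁.toAlgebra
  letI : Algebra k κ := e₂.toAlgebra
  haveI : IsScalarTower R k E := IsScalarTower.of_algebraMap_eq fun r => rfl
  haveI : IsScalarTower R k κ := IsScalarTower.of_algebraMap_eq fun r =>
    (Ideal.Quotient.factor_mk hN (algebraMap R Bp r)).symm
  let β₀ : B →+* ResidueField Λ := (residue Λ).comp (algebraMap B Λ)
  have hu : ∀ y : P.primeCompl, IsUnit (β₀ y) := fun y => by
    exact isUnit_iff_ne_zero.2 fun h0 => y.2 (hP.ge ((residue_eq_zero_iff _).1 h0))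
  let g₀ : Bp →+* ResidueField Λ := IsLocalization.lift hu
  have hg₀ : ∀ z ∈ maximalIdeal Bp, g₀ z = 0 := fun z hz => RingHom.mem_ker.1 <| by
    rw [← Localization.AtPrime.map_eq_maximalIdeal] at hz
    refine (Ideal.map_le_iff_le_comap.2 fun b hb => ?_ : P.map (algebraMap B Bp) ≤ RingHom.ker g₀) hz
    rw [Ideal.mem_comap, RingHom.mem_ker, IsLocalization.lift_eq]
    rw [hP] at hb
    exact (residue_eq_zero_iff _).2 hb
  let g : κ →+* ResidueField Λ := Ideal.Quotient.lift _ g₀ hg₀
  let gk : κ →ₐ[k] ResidueField Λ :=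
    { g with
      commutes' := fun c => by
        obtain ⟨r, rfl⟩ := residue_surjective c
        show g₀ (algebraMap R Bp r) = algebraMap k (ResidueField Λ) (residue R r)
        rw [IsScalarTower.algebraMap_apply R B Bp, IsLocalization.lift_eq]
        show residue Λ (algebraMap B Λ (algebraMap R B r)) = _
        rw [← IsScalarTower.algebraMap_apply]
        rfl }
  haveI : Algebra.IsGeometricallyReduced k κ :=
    Algebra.IsGeometricallyReduced.of_injective gk gk.toRingHom.injective
  haveI : Algebra.FormallySmooth k κ := (Sep.formallySmooth_iff_isGeometricallyReduced k κ).2 ‹_›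
  let q : E →ₐ[R] κ := Ideal.Quotient.factorₐ R hN
  obtain ⟨σ, hσ⟩ := exists_section (R := R) (k := k) (E := E) (κ := κ) residue_surjective q
    (Ideal.Quotient.factor_surjective hN) (fun a b ha hb => by
      obtain ⟨a, rfl⟩ := Ideal.Quotient.mk_surjective a
      obtain ⟨b, rfl⟩ := Ideal.Quotient.mk_surjective b
      rw [← map_mul, Ideal.Quotient.eq_zero_iff_mem]
      refine Submodule.mem_sup_left ?_
      rw [pow_two]
      exact Ideal.mul_mem_mul (Ideal.Quotient.eq_zero_iff_mem.1 ha) (Ideal.Quotient.eq_zero_iff_mem.1 hb))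
  exact detect P N hN le_sup_left σ hσ x hx h

omit [IsLocalRing R] [IsLocalRing Λ] in
theorem detect_generic [IsDomain R] [IsDomain Λ] [Module.Projective B Ω[B⁄R]]
    (K L : Type u) [Field K] [Algebra R K] [IsFractionRing R K] [Field L] [Algebra Λ L] [IsFractionRing Λ L]
    [Algebra K L] [Algebra R L] [IsScalarTower R K L] [IsScalarTower R Λ L]
    [Algebra.IsGeometricallyReduced K L]
    (Q : Ideal B) [Q.IsPrime] (hQ : Q = RingHom.ker (algebraMap B Λ))
    (x : B) (hx : x ∈ Q) (h : ∀ s : Derivation R B B, s x ∈ Q) :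
    algebraMap B (Localization.AtPrime Q) x ∈
      maximalIdeal (Localization.AtPrime Q) • Q.map (algebraMap B (Localization.AtPrime Q)) := by
  classical
  let Bq := Localization.AtPrime Q
  let κ := Bq ⧸ maximalIdeal Bq
  letI : Field κ := Ideal.Quotient.field _
  let β₀ : B →+* L := (algebraMap Λ L).comp (algebraMap B Λ)
  have hu : ∀ y : Q.primeCompl, IsUnit (β₀ y) := fun y => by
    exact isUnit_iff_ne_zero.2 fun h0 => y.2 (hQ.ge
      (RingHom.mem_ker.2 (IsFractionRing.injective Λ L (h0.trans (map_zero (algebraMap Λ L)).symm))))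
  let g₀ : Bq →+* L := IsLocalization.lift hu
  have hg₀ : ∀ z ∈ maximalIdeal Bq, g₀ z = 0 := fun z hz => RingHom.mem_ker.1 <| by
    rw [← Localization.AtPrime.map_eq_maximalIdeal] at hz
    refine (Ideal.map_le_iff_le_comap.2 fun b hb => ?_ : Q.map (algebraMap B Bq) ≤ RingHom.ker g₀) hz
    rw [Ideal.mem_comap, RingHom.mem_ker, IsLocalization.lift_eq]
    rw [hQ] at hb
    show algebraMap Λ L (algebraMap B Λ b) = 0
    rw [RingHom.mem_ker.1 hb, map_zero]
  let g : κ →+* L := Ideal.Quotient.lift _ g₀ hg₀
  have hgR : ∀ r, g (algebraMap R κ r) = algebraMap R L r := fun r => by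
    show g₀ (algebraMap R Bq r) = _
    rw [IsScalarTower.algebraMap_apply R B Bq, IsLocalization.lift_eq]
    show algebraMap Λ L (algebraMap B Λ (algebraMap R B r)) = _
    rw [← IsScalarTower.algebraMap_apply R B Λ, ← IsScalarTower.algebraMap_apply R Λ L]
  have hKu : ∀ y : nonZeroDivisors R, IsUnit (algebraMap R κ y) := fun y => by
    refine isUnit_iff_ne_zero.2 fun h0 => nonZeroDivisors.coe_ne_zero y ?_
    have h1 : algebraMap K L (algebraMap R K y) = 0 := by
      rw [← IsScalarTower.algebraMap_apply, ← hgR, h0, map_zero]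
    exact IsFractionRing.injective R K (((map_eq_zero _).1 h1).trans (map_zero (algebraMap R K)).symm)
  letI : Algebra K κ := (IsLocalization.lift (S := K) hKu).toAlgebra
  haveI : IsScalarTower R K κ := IsScalarTower.of_algebraMap_eq fun r => (IsLocalization.lift_eq hKu r).symm
  let gK : κ →ₐ[K] L :=
    { g with
      commutes' := fun c => by
        have : g.comp (algebraMap K κ) = algebraMap K L :=
          IsLocalization.ringHom_ext (nonZeroDivisors R) (RingHom.ext fun r => by
            show g (algebraMap K κ (algebraMap R K r)) = algebraMap K L (algebraMap R K r)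
            rw [← IsScalarTower.algebraMap_apply, ← IsScalarTower.algebraMap_apply, hgR])
        exact RingHom.congr_fun this c }
  haveI : Algebra.IsGeometricallyReduced K κ :=
    Algebra.IsGeometricallyReduced.of_injective gK gK.toRingHom.injective
  haveI : Algebra.FormallySmooth K κ := (Sep.formallySmooth_iff_isGeometricallyReduced K κ).2 ‹_›
  haveI : Algebra.FormallySmooth R K := Algebra.FormallySmooth.of_isLocalization (nonZeroDivisors R)
  haveI : Algebra.FormallySmooth R κ := Algebra.FormallySmooth.comp R K κ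
  have hN : maximalIdeal Bq ^ 2 ≤ maximalIdeal Bq := Ideal.pow_le_self two_ne_zero
  obtain ⟨σ, hσ⟩ := exists_section (R := R) (k := R) (E := Bq ⧸ maximalIdeal Bq ^ 2) (κ := κ)
    (fun r => ⟨r, rfl⟩) (Ideal.Quotient.factorₐ R hN)
    (Ideal.Quotient.factor_surjective hN) (fun a b ha hb => by
      obtain ⟨a, rfl⟩ := Ideal.Quotient.mk_surjective a
      obtain ⟨b, rfl⟩ := Ideal.Quotient.mk_surjective b
      rw [← map_mul, Ideal.Quotient.eq_zero_iff_mem, pow_two]
      exact Ideal.mul_mem_mul (Ideal.Quotient.eq_zero_iff_mem.1 ha) (Ideal.Quotient.eq_zero_iff_mem.1 hb))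
  have h1 := detect Q (maximalIdeal Bq ^ 2) hN le_rfl σ hσ x hx h
  rw [Localization.AtPrime.map_eq_maximalIdeal, Ideal.smul_eq_mul, ← pow_two]
  exact h1

end Groth.Agent.NeronH7
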