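import Mathlib
import Groth.Agent.Lib.NeronH7.Detect
import Groth.Agent.Lib.NormalSmooth12.Basic

/-!
A full minor of unit determinant: the ideal is locally generated by its rows, so the quotient is smooth.
-/

set_option autoImplicit false

universe u

open TensorProduct KaehlerDifferential IsLocalRing

namespace Groth.Agent.NeronH7

variable {R Λ B : Type u} [CommRing R] [CommRing Λ] [IsDomain Λ]
  [CommRing B] [Algebra R B] [Algebra R Λ] [Algebra B Λ] [IsScalarTower R B Λ]

/-- Every minor of size `r + 1` of the differentials of `I` vanishes in `Λ`. -/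
def NoBigger (R Λ : Type u) {B : Type u} [CommRing R] [CommRing Λ] [CommRing B] [Algebra R B]
    [Algebra R Λ] [Algebra B Λ] (I : Ideal B) (r : ℕ) : Prop :=
  ∀ (f : Fin r ⊕ Unit → B) (D : Fin r ⊕ Unit → Derivation R B Λ), (∀ i, f i ∈ I) →
    Matrix.det (Matrix.of fun i j => D j (f i)) = 0

/-- Generation of `I` by the rows of a maximal nonzero minor, away from elements vanishing in `Λ`. -/
theorem gen_generic [IsNoetherianRing B] (I : Ideal B) (Q : Ideal B) [Q.IsPrime]
    (hQ : Q = RingHom.ker (algebraMap B Λ)) (hI : I ≤ Q)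
    (hdetect : ∀ x ∈ I, (∀ s : Derivation R B B, s x ∈ Q) →
      algebraMap B (Localization.AtPrime Q) x ∈
        maximalIdeal (Localization.AtPrime Q) • I.map (algebraMap B (Localization.AtPrime Q)))
    {r : ℕ} (hmax : NoBigger R Λ I r) (f : Fin r → B) (hf : ∀ i, f i ∈ I) (D : Fin r → Derivation R B B)
    (hdet : algebraMap B Λ (Matrix.det (Matrix.of fun i j => D j (f i))) ≠ 0) :
    ∀ x ∈ I, ∃ w, w ∉ Q ∧ w * x ∈ Ideal.span (Set.range f) := by
  classical
  let Bq := Localization.AtPrime Q
  let ι := algebraMap B Bq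
  let M : Matrix (Fin r) (Fin r) B := Matrix.of fun i j => D j (f i)
  have hΔ : M.det ∉ Q := fun h => hdet (RingHom.mem_ker.1 (hQ ▸ h))
  have key : ∀ x ∈ I, ι x ∈ (Ideal.span (Set.range f)).map ι ⊔ maximalIdeal Bq • I.map ι := by
    intro x hx
    let c : Fin r → B := fun i => ∑ j, D j x * M.adjugate j i
    let y := M.det * x - ∑ i, c i * f i
    have hyI : y ∈ I := I.sub_mem (I.mul_mem_left _ hx) (I.sum_mem fun i _ => I.mul_mem_left _ (hf i))
    have hD : ∀ s : Derivation R B B,
        s y - (M.det * s x - ∑ i, c i * s (f i)) ∈ Q := by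
      intro s
      have e : s y - (M.det * s x - ∑ i, c i * s (f i)) = x * s M.det - ∑ i, f i * s (c i) := by
        simp only [y, map_sub, map_sum, Derivation.leibniz, smul_eq_mul, Finset.sum_add_distrib]
        ring
      rw [e]
      exact Q.sub_mem (Q.mul_mem_right _ (hI hx)) (Q.sum_mem fun i _ => Q.mul_mem_right _ (hI (hf i)))
    have hc : ∀ j, ∑ i, c i * D j (f i) = M.det * D j x := by
      intro j
      have h1 := Matrix.adjugate_mul M
      have h2 : ∀ k, ∑ i, M.adjugate k i * M i j = if k = j then M.det else 0 := fun k => by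
        have := congrFun (congrFun h1 k) j
        rw [Matrix.mul_apply, Matrix.smul_apply, Matrix.one_apply] at this
        rw [this]; split_ifs <;> simp
      simp only [c, Finset.sum_mul]
      rw [Finset.sum_comm]
      simp only [mul_assoc]
      rw [Finset.sum_congr rfl (fun k _ => by
        rw [← Finset.mul_sum, show (∑ i, M.adjugate k i * D j (f i)) = _ from h2 k] :
          ∀ k ∈ (Finset.univ : Finset (Fin r)), _ = D k x * if k = j then M.det else 0)]
      simp [Finset.sum_ite_eq', mul_comm]
    have hDy : ∀ j, algebraMap B Λ (D j y) = 0 := by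
      intro j
      have h1 := hD (D j)
      rw [hc, sub_self, sub_zero, hQ] at h1
      exact RingHom.mem_ker.1 h1
    have hy : ∀ s : Derivation R B B, s y ∈ Q := by
      intro s
      let β := algebraMap B Λ
      let g : Fin r ⊕ Unit → B := Sum.elim f fun _ => y
      let E : Fin r ⊕ Unit → Derivation R B Λ :=
        Sum.elim (fun j => (Algebra.linearMap B Λ).compDer (D j)) fun _ => (Algebra.linearMap B Λ).compDer s
      have hg : ∀ i, g i ∈ I := by rintro (i | i) <;> [exact hf i; exact hyI]
      have h0 := hmax g E hg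
      have e : (Matrix.of fun i j => E j (g i)) =
          Matrix.fromBlocks (β.mapMatrix M) (Matrix.of fun i _ => β (s (f i))) 0
            (Matrix.of fun _ _ => β (s y)) := by
        ext (i | i) (j | j)
        · rfl
        · rfl
        · show β (D j y) = (0 : Λ)
          exact hDy j
        · rfl
      rw [e, Matrix.det_fromBlocks_zero₂₁, ← RingHom.map_det, Matrix.det_unique (n := Unit)] at h0
      rw [hQ, RingHom.mem_ker]
      exact (mul_eq_zero.1 h0).resolve_left hdet
    have h3 := hdetect y hyI hy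
    have hu : IsUnit (ι M.det) := IsLocalization.map_units Bq (⟨M.det, hΔ⟩ : Q.primeCompl)
    refine (Ideal.unit_mul_mem_iff_mem _ hu).mp ?_
    rw [← map_mul, show M.det * x = (∑ i, c i * f i) + y by simp [y], map_add]
    exact Submodule.add_mem_sup
      (Ideal.mem_map_of_mem _ (Ideal.sum_mem _ fun i _ => Ideal.mul_mem_left _ _ (Ideal.subset_span ⟨i, rfl⟩))) h3
  have hle : I.map ι ≤ (Ideal.span (Set.range f)).map ι :=
    Submodule.le_of_le_smul_of_le_jacobson_bot (IsNoetherian.noetherian _)
      (IsLocalRing.maximalIdeal_le_jacobson _) (Ideal.map_le_iff_le_comap.2 key)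
  intro x hx
  exact (mem_map_atPrime_iff Q _ x).1 (hle (Ideal.mem_map_of_mem _ hx))

variable [IsLocalRing Λ]

/-- If `I` is generated by `f` generically and some minor is a unit, then `I` is generated by `f` at
the closed point. -/
theorem gen_closed [IsDomain R] [IsIntegrallyClosed R] [IsNoetherianRing R] [Algebra.Smooth R B]
    (P : Ideal B) [P.IsPrime] (hP : P = (maximalIdeal Λ).comap (algebraMap B Λ))
    (I : Ideal B) (hI : I ≤ RingHom.ker (algebraMap B Λ))
    {r : ℕ} (f : Fin r → B) (hf : ∀ i, f i ∈ I) (D : Fin r → Derivation R B B)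
    (hdet : Matrix.det (Matrix.of fun i j => D j (f i)) ∉ P)
    (hgen : ∀ x ∈ I, ∃ w, algebraMap B Λ w ≠ 0 ∧ w * x ∈ Ideal.span (Set.range f)) :
    ∀ x ∈ I, ∃ z, z ∉ P ∧ z * x ∈ Ideal.span (Set.range f) := by
  haveI : IsNoetherianRing B := Algebra.FiniteType.isNoetherianRing R B
  let J := Ideal.span (Set.range f)
  let C := B ⧸ J
  have hJ : ∀ a ∈ J, algebraMap B Λ a = 0 := fun a ha =>
    RingHom.mem_ker.1 (((Ideal.span_le.2 (Set.range_subset_iff.2 hf)).trans hI) ha)
  let γ : C →+* Λ := Ideal.Quotient.lift J (algebraMap B Λ) hJ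
  let p : Ideal C := (maximalIdeal Λ).comap γ
  haveI : p.IsPrime := Ideal.IsPrime.comap _
  have hp : ∀ b, algebraMap B C b ∈ p ↔ b ∈ P := fun b => by
    rw [hP]; rfl
  haveI hFS : Algebra.FormallySmooth R (Localization.AtPrime p) := by
    refine (LeftInv.formallySmooth_localization_iff_jacobian (A := R) (B := B) Ideal.Quotient.mk_surjective p).2
      ⟨r, f, D, fun i => RingHom.mem_ker.2 (Ideal.Quotient.eq_zero_iff_mem.2 (Ideal.subset_span ⟨i, rfl⟩)),
        fun x hx => ⟨1, ?_, ?_⟩, fun h => hdet ((hp _).1 h)⟩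
    · rw [map_one]
      exact p.primeCompl.one_mem
    · rw [one_mul]
      exact Ideal.Quotient.eq_zero_iff_mem.1 (RingHom.mem_ker.1 hx)
  haveI : Algebra.FinitePresentation R C :=
    Algebra.FinitePresentation.quotient (Submodule.fg_span (Set.finite_range f))
  obtain ⟨t, ht, hts⟩ := Algebra.IsSmoothAt.exists_notMem_smooth (R := R) p
  haveI := hts
  let Ct := Localization.Away t
  have hN := NormalSmooth12.isNormalRing_of_smooth_domain (R := R) (B := Ct)
  have hdisj : Disjoint (Submonoid.powers t : Set C) (p : Set C) := by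
    rw [Set.disjoint_left]
    rintro _ ⟨n, rfl⟩ h
    exact ht (‹p.IsPrime›.mem_of_pow_mem n h)
  let p' : Ideal Ct := p.map (algebraMap C Ct)
  haveI : p'.IsPrime := IsLocalization.isPrime_of_isPrime_disjoint (Submonoid.powers t) Ct p ‹_› hdisj
  have hcomap : p'.comap (algebraMap C Ct) = p :=
    IsLocalization.comap_map_of_isPrime_disjoint (Submonoid.powers t) Ct ‹_› hdisj
  haveI : IsLocalization.AtPrime (Localization.AtPrime p') p := by
    have := IsLocalization.isLocalization_isLocalization_atPrime_isLocalization (Submonoid.powers t)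
      (Localization.AtPrime p') p'
    simpa only [hcomap] using this
  haveI := (hN p').1
  haveI : IsDomain (Localization.AtPrime p) :=
    (IsLocalization.algEquiv p.primeCompl (Localization.AtPrime p)
      (Localization.AtPrime p')).toRingEquiv.toMulEquiv.isDomain _
  intro x hx
  obtain ⟨w, hw, hwx⟩ := hgen x hx
  let ι := algebraMap C (Localization.AtPrime p)
  have h1 : ι (algebraMap B C w) * ι (algebraMap B C x) = 0 := by
    rw [← map_mul, ← map_mul, show algebraMap B C (w * x) = 0 from Ideal.Quotient.eq_zero_iff_mem.2 hwx,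
      map_zero]
  have hx0 : ι (algebraMap B C x) = 0 := by
    refine (mul_eq_zero.1 h1).resolve_left fun h => hw ?_
    obtain ⟨z, hz⟩ := (IsLocalization.map_eq_zero_iff p.primeCompl _ _).1 h
    have h2 : γ (z : C) * algebraMap B Λ w = 0 := by
      have := congrArg γ hz
      rwa [map_mul, map_zero] at this
    exact (mul_eq_zero.1 h2).resolve_left fun h3 => z.2 (by
      show γ (z : C) ∈ maximalIdeal Λ
      rw [h3]; exact Submodule.zero_mem _)
  obtain ⟨⟨z, hzp⟩, hz⟩ := (IsLocalization.map_eq_zero_iff p.primeCompl _ _).1 hx0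
  obtain ⟨z, rfl⟩ := Ideal.Quotient.mk_surjective z
  exact ⟨z, fun h => hzp ((hp z).2 h), Ideal.Quotient.eq_zero_iff_mem.1 ((map_mul _ z x).trans hz)⟩

end Groth.Agent.NeronH7
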