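import Mathlib
import Groth.Agent.Lib.NeronH7.Terminal
import Groth.Agent.Lib.NeronH7.BlowUp
import Groth.Agent.Lib.NeronH7.Sections
import Groth.Prelude.Def_Smoothing

/-!
Néron desingularisation for extensions of discrete valuation rings of ramification index one with
separable residue and fraction field extensions.
-/

set_option autoImplicit false

universe u

open TensorProduct IsLocalRing

namespace Groth.Agent.NeronH7

theorem mem_pow_of_forall {B : Type u} [CommRing B] (P : Ideal B) [P.IsPrime] (S : Ideal B)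
    (hS : ∀ x ∈ P, ∃ t, t ∉ P ∧ t * x ∈ S) (x : B) (hx : x ∈ P ^ 2) : ∃ t, t ∉ P ∧ t * x ∈ S ^ 2 := by
  refine (mem_map_atPrime_iff P _ x).1 ?_
  rw [Ideal.map_pow]
  have h : P.map (algebraMap B (Localization.AtPrime P)) ≤ S.map (algebraMap B (Localization.AtPrime P)) :=
    Ideal.map_le_iff_le_comap.2 fun y hy => (mem_map_atPrime_iff P S y).2 (hS y hy)
  refine Ideal.pow_right_mono h 2 ?_
  rw [← Ideal.map_pow]
  exact Ideal.mem_map_of_mem _ hx

variable {R Λ : Type u} [CommRing R] [IsDomain R] [IsDiscreteValuationRing R]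
  [CommRing Λ] [IsDomain Λ] [IsDiscreteValuationRing Λ] [Algebra R Λ] [IsLocalHom (algebraMap R Λ)]
  [Algebra.IsGeometricallyReduced (ResidueField R) (ResidueField Λ)]

/-- Terminal step: a minor of unit determinant gives a smooth factorisation killing the whole kernel. -/
theorem smooth_of_unit_minor {K L : Type u} [Field K] [Algebra R K] [IsFractionRing R K] [Field L] [Algebra Λ L]
    [IsFractionRing Λ L] [Algebra K L] [Algebra R L] [IsScalarTower R K L] [IsScalarTower R Λ L]
    [Algebra.IsGeometricallyReduced K L]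
    {B : Type u} [CommRing B] [Algebra R B] [Algebra B Λ] [IsScalarTower R B Λ] [Algebra.Smooth R B]
    {r : ℕ} (f : Fin r → B) (hf : ∀ i, algebraMap B Λ (f i) = 0) (D : Fin r → Derivation R B B)
    (hdet : algebraMap B Λ (Matrix.det (Matrix.of fun i j => D j (f i))) ∉ maximalIdeal Λ)
    (hmax : NoBigger R Λ (RingHom.ker (algebraMap B Λ)) r) :
    ∃ (B' : Type u) (_ : CommRing B') (_ : Algebra R B') (β' : B' →ₐ[R] Λ) (ψ : B →ₐ[R] B'),
      Algebra.Smooth R B' ∧ (∀ b, β' (ψ b) = algebraMap B Λ b) ∧ ∀ b, algebraMap B Λ b = 0 → ψ b = 0 := by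
  haveI : IsNoetherianRing B := Algebra.FiniteType.isNoetherianRing R B
  let P := (maximalIdeal Λ).comap (algebraMap B Λ)
  let Q := RingHom.ker (algebraMap B Λ)
  haveI : P.IsPrime := Ideal.IsPrime.comap _
  haveI : Q.IsPrime := RingHom.ker_isPrime _
  have hfQ : ∀ i, f i ∈ Q := fun i => RingHom.mem_ker.2 (hf i)
  have hgen := gen_generic Q Q rfl le_rfl
    (fun x hx h => detect_generic (R := R) K L Q rfl x hx h) hmax f hfQ D
    (fun h => hdet (by rw [h]; exact Submodule.zero_mem _))
  have hclosed := gen_closed P rfl Q le_rfl f hfQ D hdet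
    (fun x hx => (hgen x hx).imp fun w hw => ⟨fun h => hw.1 (RingHom.mem_ker.2 h), hw.2⟩)
  let C := B ⧸ Q
  let γ : C →ₐ[R] Λ := Ideal.Quotient.liftₐ Q (IsScalarTower.toAlgHom R B Λ) fun a ha => RingHom.mem_ker.1 ha
  let p : Ideal C := (maximalIdeal Λ).comap γ
  haveI : p.IsPrime := Ideal.IsPrime.comap _
  haveI : Algebra.FormallySmooth R (Localization.AtPrime p) := by
    refine (LeftInv.formallySmooth_localization_iff_jacobian (A := R) (B := B) Ideal.Quotient.mk_surjective p).2
      ⟨r, f, D, fun i => RingHom.mem_ker.2 (Ideal.Quotient.eq_zero_iff_mem.2 (hfQ i)), fun x hx => ?_, hdet⟩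
    obtain ⟨z, hz, hzx⟩ := hclosed x (Ideal.Quotient.eq_zero_iff_mem.1 (RingHom.mem_ker.1 hx))
    exact ⟨z, hz, hzx⟩
  haveI : Algebra.FinitePresentation R C :=
    Algebra.FinitePresentation.quotient (IsNoetherian.noetherian Q)
  obtain ⟨t, ht, hts⟩ := Algebra.IsSmoothAt.exists_notMem_smooth (R := R) p
  have htu : IsUnit (γ t) := by
    by_contra h
    exact ht ((IsLocalRing.mem_maximalIdeal (γ t)).2 h)
  let β' : Localization.Away t →ₐ[R] Λ :=
    { (IsLocalization.Away.lift t htu : Localization.Away t →+* Λ) with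
      commutes' := fun r => by
        show IsLocalization.Away.lift t htu (algebraMap R (Localization.Away t) r) = _
        rw [IsScalarTower.algebraMap_apply R C (Localization.Away t)]
        exact (IsLocalization.Away.lift_eq t htu _).trans (γ.commutes r) }
  refine ⟨Localization.Away t, inferInstance, inferInstance, β',
    (IsScalarTower.toAlgHom R C _).comp (Ideal.Quotient.mkₐ R Q), hts, fun b => ?_, fun b hb => ?_⟩
  · exact (IsLocalization.Away.lift_eq t htu _).trans rfl
  · show algebraMap C _ (Ideal.Quotient.mk Q b) = 0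
    rw [Ideal.Quotient.eq_zero_iff_mem.2 (RingHom.mem_ker.2 hb), map_zero]

theorem factor_of_minor {K L : Type u} [Field K] [Algebra R K] [IsFractionRing R K] [Field L] [Algebra Λ L]
    [IsFractionRing Λ L] [Algebra K L] [Algebra R L] [IsScalarTower R K L] [IsScalarTower R Λ L]
    [Algebra.IsGeometricallyReduced K L]
    (ϖ : R) (hR : maximalIdeal R = Ideal.span {ϖ}) (hm : maximalIdeal Λ = Ideal.span {algebraMap R Λ ϖ}) :
    ∀ (n : ℕ) (B : Type u) (_ : CommRing B) (_ : Algebra R B) (_ : Algebra B Λ) (_ : IsScalarTower R B Λ)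
      (_ : Algebra.Smooth R B) (r : ℕ) (f : Fin r → B) (D : Fin r → Derivation R B Λ),
      (∀ i, algebraMap B Λ (f i) = 0) → NoBigger R Λ (RingHom.ker (algebraMap B Λ)) r →
      Associated (Matrix.det (Matrix.of fun i j => D j (f i))) (algebraMap R Λ ϖ ^ n) →
      ∃ (B' : Type u) (_ : CommRing B') (_ : Algebra R B') (β' : B' →ₐ[R] Λ) (ψ : B →ₐ[R] B'),
        Algebra.Smooth R B' ∧ (∀ b, β' (ψ b) = algebraMap B Λ b) ∧ ∀ b, algebraMap B Λ b = 0 → ψ b = 0 := by
  classical
  intro n
  induction n using Nat.strong_induction_on with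
  | _ n IH =>
    intro B _ _ _ _ _ r f D hf hmax hassoc
    haveI : IsNoetherianRing B := Algebra.FiniteType.isNoetherianRing R B
    let β := algebraMap B Λ
    let P := (maximalIdeal Λ).comap β
    haveI : P.IsPrime := Ideal.IsPrime.comap _
    have hfP : ∀ i, f i ∈ P := fun i => by
      show β (f i) ∈ maximalIdeal Λ
      rw [show β (f i) = 0 from hf i]; exact Submodule.zero_mem _
    rcases exists_det_or_relation (R := R) P f hfP with ⟨D', hD'⟩ | ⟨b, k, hbk, hrel⟩
    · exact smooth_of_unit_minor (K := K) (L := L) f hf D' hD' hmax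
    let ϖΛ := algebraMap R Λ ϖ
    let ϖB := algebraMap R B ϖ
    have hπ0 : ϖΛ ≠ 0 := fun h => IsDiscreteValuationRing.not_a_field Λ (by
      rw [hm, show algebraMap R Λ ϖ = 0 from h, Ideal.span_singleton_eq_bot])
    have hϖP : ϖB ∈ P := by
      show β ϖB ∈ maximalIdeal Λ
      rw [hm, ← IsScalarTower.algebraMap_apply]
      exact Ideal.mem_span_singleton_self _
    obtain ⟨e, a, E, haP, hgenP, hdetE⟩ := exists_param (R := R) P ϖB hϖP
      (fun x hx h => detect_closed (Λ := Λ) ϖ hR P rfl x hx h)
    obtain ⟨B', _, _, _, _, _, ψ, hψβ, hψdiv, hψD, hψloc⟩ := step (Λ := Λ) ϖ hm a haP E hdetE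
    let S : Ideal B := Ideal.span (insert ϖB (Set.range a))
    -- the relation gives an element of the kernel in `S ^ 2` up to a unit
    let x := ∑ i, b i * f i
    have hx0 : β x = 0 := by simp [x, β, hf]
    have hxP : x ∈ P := P.sum_mem fun i _ => P.mul_mem_left _ (hfP i)
    obtain ⟨t, ht, htx⟩ : ∃ t, t ∉ P ∧ t * x ∈ P ^ 2 ⊔ Ideal.span {ϖB} := by
      refine (mem_map_atPrime_iff P _ x).1 ?_
      rw [Ideal.map_sup, Ideal.map_pow, Localization.AtPrime.map_eq_maximalIdeal, Ideal.map_span,
        Set.image_singleton]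
      exact detect_closed (Λ := Λ) ϖ hR P rfl x hxP hrel
    have htx2 : t * x ∈ P ^ 2 := by
      obtain ⟨p, hp, q, hq, hpq⟩ := Submodule.mem_sup.1 htx
      obtain ⟨d, rfl⟩ := Ideal.mem_span_singleton'.1 hq
      have h2 : β p ∈ Ideal.span {ϖΛ ^ 2} := by
        rw [← Ideal.span_singleton_pow, ← hm]
        exact Ideal.pow_right_mono (Ideal.map_comap_le (f := β)) 2
          (by rw [← Ideal.map_pow]; exact Ideal.mem_map_of_mem _ hp)
      obtain ⟨u, hu⟩ := Ideal.mem_span_singleton'.1 h2
      have h3 : β p + β d * ϖΛ = 0 := by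
        rw [show ϖΛ = β ϖB from IsScalarTower.algebraMap_apply R B Λ ϖ, ← map_mul, ← map_add, hpq, map_mul, hx0,
          mul_zero]
      have hd : d ∈ P := by
        show β d ∈ maximalIdeal Λ
        rw [hm, Ideal.mem_span_singleton']
        refine ⟨-u, mul_right_cancel₀ hπ0 ?_⟩
        linear_combination -h3 - hu
      rw [← hpq]
      refine Ideal.add_mem _ hp ?_
      rw [pow_two]
      exact Ideal.mul_mem_mul hd hϖP
    obtain ⟨t₂, ht₂, ht₂x⟩ := mem_pow_of_forall P S hgenP _ htx2
    choose τ hτ hτf using fun i => hgenP (f i) (hfP i)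
    choose g₁ hg₁ using fun i => hψdiv _ (hτf i)
    have hS2 : ∀ y ∈ S ^ 2, ∃ g, ψ y = algebraMap R B' ϖ ^ 2 * g := by
      intro y hy
      have hle : S.map ψ.toRingHom ≤ Ideal.span {algebraMap R B' ϖ} :=
        Ideal.map_le_iff_le_comap.2 fun z hz => by
          obtain ⟨g, hg⟩ := hψdiv z hz
          show ψ z ∈ Ideal.span {algebraMap R B' ϖ}
          rw [hg]
          exact Ideal.mul_mem_right _ _ (Ideal.mem_span_singleton_self _)
      have := Ideal.pow_right_mono hle 2 (Ideal.map_pow (f := ψ.toRingHom) S 2 ▸ Ideal.mem_map_of_mem _ hy)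
      rw [Ideal.span_singleton_pow, Ideal.mem_span_singleton'] at this
      obtain ⟨g, hg⟩ := this
      exact ⟨g, by rw [mul_comm]; exact hg.symm⟩
    obtain ⟨g₂, hg₂⟩ := hS2 _ ht₂x
    choose D₁ hD₁ using fun j => hψD (D j)
    -- the new minor
    let f' : Fin r → B' := Function.update g₁ k g₂
    let M : Matrix (Fin r) (Fin r) Λ := Matrix.of fun i j => D j (f i)
    let M' : Matrix (Fin r) (Fin r) Λ := Matrix.of fun i j => D₁ j (f' i)
    have hscalar : ∀ (j : Fin r) (g : B') (m : ℕ),
        D₁ j (algebraMap R B' ϖ ^ m * g) = ϖΛ ^ m * D₁ j g := fun j g m => by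
      rw [← map_pow, ← Algebra.smul_def, Derivation.map_smul, Algebra.smul_def, map_pow]
    have hDmul : ∀ (j : Fin r) (c y : B), β y = 0 → D j (c * y) = β c * D j y := fun j c y hy => by
      rw [Derivation.leibniz, Algebra.smul_def, Algebra.smul_def, show algebraMap B Λ y = 0 from hy, zero_mul,
        add_zero]
    have hβval : ∀ g y (m : ℕ), ψ y = algebraMap R B' ϖ ^ m * g → β y = 0 → algebraMap B' Λ g = 0 := by
      intro g y m h hy
      have h1 := congrArg (algebraMap B' Λ) h
      rw [hψβ, map_mul, map_pow, ← IsScalarTower.algebraMap_apply, show algebraMap B Λ y = 0 from hy] at h1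
      exact (mul_eq_zero.1 h1.symm).resolve_left (pow_ne_zero m hπ0)
    have hτf0 : ∀ i, β (τ i * f i) = 0 := fun i => by rw [map_mul, show β (f i) = 0 from hf i, mul_zero]
    have htx0 : β (t₂ * (t * x)) = 0 := by rw [map_mul, map_mul, hx0, mul_zero, mul_zero]
    have hrow : ∀ i j, D₁ j (g₁ i) = β (τ i) * D j (f i) := fun i j => by
      refine mul_left_cancel₀ hπ0 ?_
      have := hD₁ j (τ i * f i)
      rw [hg₁, ← pow_one (algebraMap R B' ϖ), hscalar, pow_one, hDmul j _ _ (hf i)] at this
      exact this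
    have hrowk : ∀ j, ϖΛ * D₁ j g₂ = β (t₂ * t) * ∑ i, β (b i) * D j (f i) := fun j => by
      refine mul_left_cancel₀ hπ0 ?_
      have := hD₁ j (t₂ * (t * x))
      rw [hg₂, hscalar, ← mul_assoc t₂ t x, hDmul j _ _ hx0] at this
      rw [← mul_assoc, ← pow_two, this]
      congr 1
      congr 1
      simp only [x, map_sum]
      exact Finset.sum_congr rfl fun i _ => hDmul j _ _ (hf i)
    let v : Fin r → Λ := Function.update (fun i => β (τ i)) k (β (t₂ * t))
    have hM' : ϖΛ * M'.det = (∏ i, v i) * (β (b k) * M.det) := by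
      have e1 : M'.updateRow k (ϖΛ • M' k) =
          Matrix.of fun i j => v i * (M.updateRow k (∑ l, β (b l) • M l)) i j := by
        ext1 i j
        by_cases hi : i = k
        · subst hi
          simp only [Matrix.updateRow_self, Pi.smul_apply, smul_eq_mul, Matrix.of_apply, v, M', f',
            Function.update_self, Finset.sum_apply, M]
          exact hrowk j
        · simp only [Matrix.updateRow_ne hi, Matrix.of_apply, v, M', f', Function.update_of_ne hi, M]
          exact hrow i j
      have e2 := congrArg Matrix.det e1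
      rwa [Matrix.det_updateRow_smul, Matrix.updateRow_eq_self, Matrix.det_mul_column, Matrix.det_updateRow_sum,
        smul_eq_mul] at e2
    have hunit : ∀ z, z ∉ P → IsUnit (β z) := fun z hz => by
      by_contra h
      exact hz ((IsLocalRing.mem_maximalIdeal (β z)).2 h)
    have hv : IsUnit ((∏ i, v i) * β (b k)) := by
      refine (IsUnit.prod_univ_iff.2 fun i => ?_).mul (hunit _ hbk)
      by_cases hi : i = k
      · subst hi
        simp only [v, Function.update_self, map_mul]
        exact (hunit _ ht₂).mul (hunit _ ht)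
      · simp only [v, Function.update_of_ne hi]
        exact hunit _ (hτ i)
    obtain ⟨u, hu⟩ := hassoc
    obtain ⟨m, rfl⟩ : ∃ m, n = m + 1 := by
      rcases n with _ | m
      · exfalso
        have h1 : IsUnit (ϖΛ * M'.det) := by
          rw [hM', ← mul_assoc]
          refine hv.mul ?_
          rw [pow_zero] at hu
          exact IsUnit.of_mul_eq_one (u : Λ) hu
        have h2 : ¬ IsUnit ϖΛ := fun h => (IsLocalRing.mem_maximalIdeal ϖΛ).1
          (by rw [hm]; exact Ideal.mem_span_singleton_self _) h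
        exact h2 (isUnit_of_mul_isUnit_left h1)
      · exact ⟨m, rfl⟩
    have hassoc' : Associated M'.det (ϖΛ ^ m) := by
      refine Associated.of_mul_left ?_ (Associated.refl ϖΛ) hπ0
      rw [hM', ← mul_assoc, ← pow_succ']
      exact ((associated_isUnit_mul_left_iff hv).2 ⟨u, hu⟩)
    have hf' : ∀ i, algebraMap B' Λ (f' i) = 0 := by
      intro i
      by_cases hi : i = k
      · subst hi
        simp only [f', Function.update_self]
        exact hβval _ _ 2 hg₂ htx0
      · simp only [f', Function.update_of_ne hi]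
        exact hβval _ _ 1 (by rw [pow_one]; exact hg₁ i) (hτf0 i)
    have hmax' : NoBigger R Λ (RingHom.ker (algebraMap B' Λ)) r := by
      intro g G hg
      choose s d c hs hc using fun i => hψloc (g i)
      have hc0 : ∀ i, β (c i) = 0 := fun i => by
        have := congrArg (algebraMap B' Λ) (hc i)
        rw [map_mul, RingHom.mem_ker.1 (hg i), mul_zero, hψβ] at this
        exact this.symm
      let G₀ : Fin r ⊕ Unit → Derivation R B Λ := fun j => Derivation.mk' ((G j).toLinearMap ∘ₗ ψ.toLinearMap)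
        fun y z => by
          show G j (ψ (y * z)) = y • G j (ψ z) + z • G j (ψ y)
          rw [map_mul, Derivation.leibniz, Algebra.smul_def, Algebra.smul_def, Algebra.smul_def,
            Algebra.smul_def, hψβ, hψβ]
      have h0 := hmax c G₀ fun i => RingHom.mem_ker.2 (hc0 i)
      have e1 : (Matrix.of fun i j => G₀ j (c i)) =
          Matrix.of fun i j => (ϖΛ ^ d i * algebraMap B' Λ (s i)) * (Matrix.of fun i j => G j (g i)) i j := by
        ext1 i j
        show G j (ψ (c i)) = _
        rw [← hc, Derivation.leibniz, Algebra.smul_def, Algebra.smul_def, RingHom.mem_ker.1 (hg i), zero_mul,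
          add_zero, map_mul, map_pow, ← IsScalarTower.algebraMap_apply]
        rfl
      rw [e1, Matrix.det_mul_column] at h0
      refine (mul_eq_zero.1 h0).resolve_left (Finset.prod_ne_zero_iff.2 fun i _ => mul_ne_zero
        (pow_ne_zero _ hπ0) fun h => hs i (by rw [h]; exact Submodule.zero_mem _))
    obtain ⟨B'', _, _, β'', ψ'', hsm, hcomm, hkill⟩ := IH m (Nat.lt_succ_self m) B' inferInstance inferInstance
      inferInstance inferInstance ‹_› r f' D₁ hf' hmax' hassoc'
    exact ⟨B'', inferInstance, inferInstance, β'', ψ''.comp ψ, hsm,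
      fun z => (hcomm _).trans (hψβ z), fun z hz => hkill _ ((hψβ z).trans hz)⟩

/-- A nonzero minor of maximal size. -/
theorem exists_max_minor {B : Type u} [CommRing B] [Algebra R B] [Algebra B Λ] [IsScalarTower R B Λ]
    [Algebra.FiniteType R B] (I : Ideal B) :
    ∃ (r : ℕ) (f : Fin r → B) (D : Fin r → Derivation R B Λ), (∀ i, f i ∈ I) ∧
      Matrix.det (Matrix.of fun i j => D j (f i)) ≠ 0 ∧ NoBigger R Λ I r := by
  classical
  let Q : ℕ → Prop := fun r => ∃ (f : Fin r → B) (D : Fin r → Derivation R B Λ), (∀ i, f i ∈ I) ∧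
    Matrix.det (Matrix.of fun i j => D j (f i)) ≠ 0
  obtain ⟨s, hs⟩ := ‹Algebra.FiniteType R B›.out
  have hbound : ∀ r, Q r → r ≤ s.card := by
    rintro r ⟨f, D, _, hdet⟩
    by_contra hlt
    let w : Fin r → (s → Λ) := fun j x => D j x
    have : ¬ LinearIndependent Λ w := fun h => hlt (by
      simpa [Module.finrank_fintype_fun_eq_card] using h.fintype_card_le_finrank)
    rw [Fintype.not_linearIndependent_iff] at this
    obtain ⟨c, hc, j₀, hj₀⟩ := this
    refine hdet (Matrix.exists_mulVec_eq_zero_iff.1 ⟨c, fun h => hj₀ (congrFun h j₀), ?_⟩)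
    have hD0 : (∑ j, c j • D j) = 0 := Derivation.ext_of_adjoin_eq_top _ hs fun x hx => by
      have h1 := congrFun hc ⟨x, hx⟩
      simp only [Finset.sum_apply, Pi.smul_apply, Pi.zero_apply] at h1
      rw [Derivation.zero_apply, ← h1, ← Derivation.coeFnAddMonoidHom_apply, map_sum, Finset.sum_apply]
      rfl
    funext i
    have h1 := congrArg (fun d : Derivation R B Λ => d (f i)) hD0
    simp only [Derivation.zero_apply] at h1
    rw [← Derivation.coeFnAddMonoidHom_apply, map_sum, Finset.sum_apply] at h1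
    rw [Pi.zero_apply, ← h1]
    show ∑ j, D j (f i) * c j = _
    exact Finset.sum_congr rfl fun j _ => mul_comm (D j (f i)) (c j)
  have hQ0 : Q 0 := ⟨Fin.elim0, Fin.elim0, fun i => i.elim0, by simp⟩
  let r := Nat.findGreatest Q s.card
  obtain ⟨f, D, hf, hdet⟩ : Q r := Nat.findGreatest_spec (Nat.zero_le _) hQ0
  refine ⟨r, f, D, hf, hdet, fun g G hg => by_contra fun hne => ?_⟩
  have e : Fin (r + 1) ≃ Fin r ⊕ Unit := Fintype.equivOfCardEq (by simp)
  have hQ' : Q (r + 1) := by
    refine ⟨g ∘ e, G ∘ e, fun i => hg _, ?_⟩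
    rw [← Matrix.det_submatrix_equiv_self e] at hne
    exact hne
  have : r + 1 ≤ r := Nat.le_findGreatest (hbound _ hQ') hQ'
  omega

theorem indSmooth {K L : Type u} [Field K] [Algebra R K] [IsFractionRing R K] [Field L] [Algebra Λ L]
    [IsFractionRing Λ L] [Algebra K L] [Algebra R L] [IsScalarTower R K L] [IsScalarTower R Λ L]
    [Algebra.IsGeometricallyReduced K L]
    (he : (maximalIdeal R).map (algebraMap R Λ) = maximalIdeal Λ) : Smoothing.IndSmooth R Λ := by
  intro A _ _ hA φ
  obtain ⟨ϖ, hR⟩ := (IsPrincipalIdealRing.principal (maximalIdeal R)).principal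
  have hR' : maximalIdeal R = Ideal.span {ϖ} := hR
  have hm : maximalIdeal Λ = Ideal.span {algebraMap R Λ ϖ} := by
    rw [← he, hR', Ideal.map_span, Set.image_singleton]
  obtain ⟨n, q, hq, -⟩ := Algebra.FinitePresentation.out (R := R) (A := A)
  let B₀ := ULift.{u} (MvPolynomial (Fin n) R)
  let q' : B₀ →ₐ[R] A := q.comp (ULift.algEquiv (R := R)).toAlgHom
  have hq' : Function.Surjective q' := hq.comp (ULift.algEquiv (R := R)).surjective
  letI : Algebra B₀ Λ := (φ.comp q').toAlgebra
  haveI : IsScalarTower R B₀ Λ := IsScalarTower.of_algebraMap_eq fun r => ((φ.comp q').commutes r).symm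
  haveI : Algebra.Smooth R (MvPolynomial (Fin n) R) := ⟨inferInstance, inferInstance⟩
  haveI : Algebra.Smooth R B₀ := Algebra.Smooth.of_equiv (ULift.algEquiv (R := R) (A := MvPolynomial (Fin n) R)).symm
  obtain ⟨r, f, D, hf, hdet, hmax⟩ := exists_max_minor (R := R) (Λ := Λ) (RingHom.ker (algebraMap B₀ Λ))
  have hirr : Irreducible (algebraMap R Λ ϖ) := (IsDiscreteValuationRing.irreducible_iff_uniformizer _).2 hm
  obtain ⟨m, hm'⟩ := IsDiscreteValuationRing.associated_pow_irreducible hdet hirr
  obtain ⟨B', _, _, β', ψ, hsm, hcomm, hkill⟩ := factor_of_minor (K := K) (L := L) ϖ hR' hm m B₀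
    inferInstance inferInstance inferInstance inferInstance ‹_› r f D (fun i => RingHom.mem_ker.1 (hf i)) hmax hm'
  let g : A →ₐ[R] B' := AlgHom.liftOfSurjective q' hq' ψ fun z hz => RingHom.mem_ker.2 (hkill z (by
    show φ (q' z) = 0
    rw [show q' z = 0 from hz, map_zero]))
  refine ⟨B', inferInstance, inferInstance, hsm, g, β', AlgHom.ext fun y => ?_⟩
  obtain ⟨z, rfl⟩ := hq' y
  show β' (g (q' z)) = _
  rw [show g (q' z) = ψ z from AlgHom.liftOfSurjective_apply _ _ _ _ z, hcomm]
  rfl

end Groth.Agent.NeronH7
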