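import Mathlib
import Groth.Agent.Lib.NeronH7.BlowUp
import Groth.Agent.Lib.NeronH7.Sections
import Groth.Agent.Lib.NeronH7.Main
import Groth.Agent.Lib.NormalSmooth12.Basic
import Groth.Prelude.Def_BlowUp2

/-!
The affine blow-up algebra of a smooth algebra along the prime over the maximal ideal is smooth at the
induced prime.
-/

set_option autoImplicit false

universe u

open IsLocalRing

namespace Groth.Agent.NeronH7

/-- A map out of a local ring at a prime whose preimage of the maximal ideal is that prime reflects units. -/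
theorem isUnit_of_isUnit_atPrime {C Λ : Type u} [CommRing C] [CommRing Λ] [IsLocalRing Λ] (p : Ideal C) [p.IsPrime]
    (γ : C →+* Λ) (hp : ∀ q, q ∈ p ↔ γ q ∈ maximalIdeal Λ) (ψ : Localization.AtPrime p →+* Λ)
    (hψ : ∀ q, ψ (algebraMap C (Localization.AtPrime p) q) = γ q) (z : Localization.AtPrime p)
    (hz : IsUnit (ψ z)) : IsUnit z := by
  obtain ⟨⟨w, s⟩, hws⟩ := IsLocalization.surj p.primeCompl z
  have h1 := congrArg ψ hws
  rw [map_mul, hψ, hψ] at h1
  have h2 : IsUnit (γ (s : C)) := by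
    by_contra h'
    exact s.2 ((hp _).2 ((IsLocalRing.mem_maximalIdeal (γ (s : C))).2 h'))
  have hw : IsUnit (algebraMap C (Localization.AtPrime p) w) := IsLocalization.map_units _
    (⟨w, fun h => (IsLocalRing.mem_maximalIdeal (γ w)).1 ((hp _).1 h) (h1 ▸ hz.mul h2)⟩ : p.primeCompl)
  exact isUnit_of_mul_isUnit_left (hws ▸ hw)

/-- The local ring of a smooth point over a normal Noetherian domain is a domain. -/
theorem isDomain_atPrime_of_formallySmooth {R C : Type u} [CommRing R] [IsDomain R] [IsIntegrallyClosed R]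
    [CommRing C] [Algebra R C] [Algebra.FinitePresentation R C] (p : Ideal C) [p.IsPrime]
    (h : Algebra.IsSmoothAt R p) : IsDomain (Localization.AtPrime p) := by
  haveI := h
  obtain ⟨t, ht, hts⟩ := Algebra.IsSmoothAt.exists_notMem_smooth (R := R) p
  haveI := hts
  let Ct := Localization.Away t
  have hN := NormalSmooth12.isNormalRing_of_smooth_domain (R := R) (B := Ct)
  have hdisj : Disjoint (Submonoid.powers t : Set C) (p : Set C) := by
    rw [Set.disjoint_left]
    rintro _ ⟨n, rfl⟩ h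
    exact ht (‹p.IsPrime›.mem_of_pow_mem n h)
  let p' : Ideal Ct := p.map (algebraMap C Ct)
  haveI : p'.IsPrime := IsLocalization.isPrime_of_isPrime_disjoint (Submonoid.powers t) Ct p ‹_› hdisj
  have hcomap : p'.comap (algebraMap C Ct) = p :=
    IsLocalization.comap_map_of_isPrime_disjoint (Submonoid.powers t) Ct ‹_› hdisj
  haveI : IsLocalization.AtPrime (Localization.AtPrime p') p := by
    have := IsLocalization.isLocalization_isLocalization_atPrime_isLocalization (Submonoid.powers t)
      (Localization.AtPrime p') p'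
    simpa only [hcomap] using this
  haveI := (hN p').1
  exact (IsLocalization.algEquiv p.primeCompl (Localization.AtPrime p)
    (Localization.AtPrime p')).toRingEquiv.toMulEquiv.isDomain _

/-- The chart `B[y] / (ϖ y - a)` is smooth at the induced point. -/
theorem chart_smoothAt {R Λ B : Type u} [CommRing R] [CommRing Λ] [IsLocalRing Λ] [IsNoetherianRing R]
    [CommRing B] [Algebra R B] [Algebra.Smooth R B] [Algebra B Λ] (ϖ : R) {e : ℕ} (a : Fin e → B)
    (c : Fin e → Λ) (E : Fin e → Derivation R B B)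
    (hdet : algebraMap B Λ (Matrix.det (Matrix.of fun i j => E j (a i))) ∉ maximalIdeal Λ)
    (J : Ideal (MvPolynomial (Fin e) B))
    (hJ : J = Ideal.span (Set.range fun i =>
      algebraMap R (MvPolynomial (Fin e) B) ϖ * MvPolynomial.X i - MvPolynomial.C (a i)))
    (γ : MvPolynomial (Fin e) B ⧸ J →+* Λ)
    (hγ : ∀ q, γ (Ideal.Quotient.mk J q) = MvPolynomial.aeval c q) [((maximalIdeal Λ).comap γ).IsPrime] :
    Algebra.IsSmoothAt R ((maximalIdeal Λ).comap γ) := by
  classical
  haveI : IsNoetherianRing B := Algebra.FiniteType.isNoetherianRing R B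
  let A := MvPolynomial (Fin e) B
  let C₁ := A ⧸ J
  let p : Ideal C₁ := (maximalIdeal Λ).comap γ
  haveI : p.IsPrime := ‹_›
  haveI : Algebra.FormallySmooth R A := Algebra.FormallySmooth.comp R B A
  let f : Fin e → A := fun i => algebraMap R A ϖ * MvPolynomial.X i - MvPolynomial.C (a i)
  choose EA hEC hEX using fun j => exists_mapCoeffs (R := R) (σ := Fin e) (E j)
  show Algebra.FormallySmooth R (Localization.AtPrime p)
  refine (LeftInv.formallySmooth_localization_iff_jacobian (A := R) (B := A) Ideal.Quotient.mk_surjective p).2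
    ⟨e, f, EA, fun i => RingHom.mem_ker.2 (Ideal.Quotient.eq_zero_iff_mem.2 (hJ ▸ Ideal.subset_span ⟨i, rfl⟩)),
      fun x hx => ⟨1, ?_, ?_⟩, fun h => hdet ?_⟩
  · rw [map_one]
    exact p.primeCompl.one_mem
  · rw [one_mul, ← hJ]
    exact Ideal.Quotient.eq_zero_iff_mem.1 (RingHom.mem_ker.1 hx)
  · have e1 : (Matrix.of fun i j => EA j (f i)) =
        -((MvPolynomial.C : B →+* A).mapMatrix (Matrix.of fun i j => E j (a i))) := by
      ext1 i j
      show EA j (f i) = -(MvPolynomial.C (E j (a i)))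
      have h0 : EA j (algebraMap R A ϖ) = 0 := (EA j).map_algebraMap ϖ
      rw [map_sub, Derivation.leibniz, hEX, h0, smul_zero, smul_zero, add_zero, zero_sub, hEC]
    have h' : γ (Ideal.Quotient.mk J (Matrix.det (Matrix.of fun i j => EA j (f i)))) ∈ maximalIdeal Λ := h
    rw [hγ, e1, Matrix.det_neg, ← RingHom.map_det, map_mul] at h'
    rw [show MvPolynomial.aeval c (MvPolynomial.C _) = _ from
      (MvPolynomial.aeval c).commutes (Matrix.det (Matrix.of fun i j => E j (a i)))] at h'
    refine (Ideal.unit_mul_mem_iff_mem _ ?_).1 h'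
    rw [map_pow, map_neg, map_one]
    exact isUnit_one.neg.pow _

variable {R Λ A : Type u} [CommRing R] [IsDomain R] [IsDiscreteValuationRing R]
  [CommRing Λ] [IsDomain Λ] [IsDiscreteValuationRing Λ] [Algebra R Λ] [IsLocalHom (algebraMap R Λ)]
  [Algebra.IsGeometricallyReduced (ResidueField R) (ResidueField Λ)]
  [CommRing A] [Algebra R A] [Algebra A Λ] [IsScalarTower R A Λ]

theorem isSmoothAt_blowUp [Algebra.FinitePresentation R A] (ϖ : R)
    (hR : maximalIdeal R = Ideal.span {ϖ}) (hm : maximalIdeal Λ = Ideal.span {algebraMap R Λ ϖ})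
    (P : Ideal A) [P.IsPrime] (hP : P = (maximalIdeal Λ).comap (algebraMap A Λ))
    (hsm : Algebra.IsSmoothAt R P)
    (A' : Type u) [CommRing A'] [Algebra R A'] [Algebra A A'] [IsScalarTower R A A']
    (φ : A' →ₐ[A] Λ) (hinjA : Function.Injective (algebraMap A A')) (hreg : IsRegular (algebraMap R A' ϖ))
    (hfrac : ∀ a' : A', ∃ (n : ℕ) (a : A), algebraMap R A' ϖ ^ n * a' = algebraMap A A' a)
    (hgen : Algebra.adjoin A {z : A' | ∃ x ∈ P, algebraMap R A' ϖ * z = algebraMap A A' x} = ⊤)
    (hdiv : ∀ x ∈ P, ∃ z : A', algebraMap R A' ϖ * z = algebraMap A A' x)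
    [((maximalIdeal Λ).comap φ.toRingHom).IsPrime] :
    Algebra.IsSmoothAt R ((maximalIdeal Λ).comap φ.toRingHom) := by
  classical
  let P' : Ideal A' := (maximalIdeal Λ).comap φ.toRingHom
  haveI : P'.IsPrime := ‹_›
  haveI := hsm
  obtain ⟨t, ht, hts⟩ := Algebra.IsSmoothAt.exists_notMem_smooth (R := R) P
  haveI := hts
  let B := Localization.Away t
  haveI : IsNoetherianRing B := Algebra.FiniteType.isNoetherianRing R B
  have hunit : ∀ z, z ∉ P → IsUnit (algebraMap A Λ z) := fun z hz => by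
    by_contra h
    exact hz (hP.ge ((IsLocalRing.mem_maximalIdeal (algebraMap A Λ z)).2 h))
  letI : Algebra B Λ := (IsLocalization.Away.lift t (hunit t ht) : B →+* Λ).toAlgebra
  have hBA : ∀ z, algebraMap B Λ (algebraMap A B z) = algebraMap A Λ z := fun z =>
    IsLocalization.Away.lift_eq t (hunit t ht) z
  haveI : IsScalarTower R B Λ := IsScalarTower.of_algebraMap_eq fun r => by
    rw [IsScalarTower.algebraMap_apply R A B, hBA, ← IsScalarTower.algebraMap_apply]
  let PB : Ideal B := (maximalIdeal Λ).comap (algebraMap B Λ)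
  haveI : PB.IsPrime := Ideal.IsPrime.comap _
  have hπ0 : algebraMap R Λ ϖ ≠ 0 := fun h => IsDiscreteValuationRing.not_a_field Λ (by
    rw [hm, h, Ideal.span_singleton_eq_bot])
  have hϖP : algebraMap R B ϖ ∈ PB := by
    show algebraMap B Λ _ ∈ maximalIdeal Λ
    rw [hm, ← IsScalarTower.algebraMap_apply]
    exact Ideal.mem_span_singleton_self _
  obtain ⟨e, a, E, haP, hgenP, hdetE⟩ := exists_param (R := R) PB _ hϖP
    (fun x hx h => detect_closed (Λ := Λ) ϖ hR PB rfl x hx h)
  choose c hc using fun i => Ideal.mem_span_singleton'.1 (hm ▸ haP i :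
    algebraMap B Λ (a i) ∈ Ideal.span {algebraMap R Λ ϖ})
  let S := MvPolynomial (Fin e) B
  let J : Ideal S := Ideal.span (Set.range fun i =>
      algebraMap R S ϖ * MvPolynomial.X i - MvPolynomial.C (a i))
  let C₁ := S ⧸ J
  letI instC : CommRing C₁ := Ideal.Quotient.commRing J
  let ev : S →ₐ[B] Λ := MvPolynomial.aeval c
  have hev : ∀ r : R, ev (algebraMap R S r) = algebraMap R Λ r := fun r => by
    rw [IsScalarTower.algebraMap_apply R B S, ev.commutes, ← IsScalarTower.algebraMap_apply]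
  have hJ : ∀ q ∈ J, ev q = 0 := fun q hq => RingHom.mem_ker.1 ((Ideal.span_le.2 (Set.range_subset_iff.2
    fun i => RingHom.mem_ker.2 (by
      show ev (algebraMap R S ϖ * MvPolynomial.X i - MvPolynomial.C (a i)) = 0
      rw [map_sub, map_mul, hev, show ev (MvPolynomial.X i) = c i from MvPolynomial.aeval_X _ _,
        show ev (MvPolynomial.C (a i)) = algebraMap B Λ (a i) from ev.commutes _, mul_comm, hc, sub_self]))) hq :
      q ∈ RingHom.ker ev.toRingHom)
  let γ : C₁ →+* Λ := Ideal.Quotient.lift J ev.toRingHom hJ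
  let p : Ideal C₁ := (maximalIdeal Λ).comap γ
  haveI : p.IsPrime := Ideal.IsPrime.comap _
  have hsm1 : Algebra.IsSmoothAt R (A := C₁) p := chart_smoothAt (Λ := Λ) ϖ a c E hdetE J rfl γ fun q => rfl
  haveI : Algebra.FinitePresentation R S := Algebra.FinitePresentation.trans R B S
  haveI : Algebra.FinitePresentation R C₁ :=
    Algebra.FinitePresentation.quotient (Submodule.fg_span (Set.finite_range _))
  let M := Localization.AtPrime (R := C₁) p
  haveI : IsDomain M := isDomain_atPrime_of_formallySmooth (C := C₁) p hsm1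
  let γM : M →+* Λ := IsLocalization.lift (M := p.primeCompl) (g := γ) fun y => by
    by_contra h
    exact y.2 ((IsLocalRing.mem_maximalIdeal (γ y)).2 h)
  have hγM : ∀ q, γM (algebraMap C₁ M q) = γ q := fun q => IsLocalization.lift_eq _ q
  -- the map to the local ring of the blow-up
  let L := Localization.AtPrime P'
  have hAu : ∀ z, z ∉ P → IsUnit (algebraMap A' L (algebraMap A A' z)) := fun z hz =>
    IsLocalization.map_units L (⟨_, fun h => hz (hP.ge (by
      show algebraMap A Λ z ∈ maximalIdeal Λ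
      rw [← φ.commutes]; exact h))⟩ : P'.primeCompl)
  let θ₀ : B →+* L := IsLocalization.Away.lift t (g := (algebraMap A' L).comp (algebraMap A A')) (hAu t ht)
  have hθ₀ : ∀ z, θ₀ (algebraMap A B z) = algebraMap A' L (algebraMap A A' z) := fun z =>
    IsLocalization.Away.lift_eq t _ z
  let ψL : L →+* Λ := IsLocalization.lift (M := P'.primeCompl) (g := φ.toRingHom) fun y => by
    by_contra h
    exact y.2 ((IsLocalRing.mem_maximalIdeal (φ (y : A'))).2 h)
  have hψL : ∀ z, ψL (algebraMap A' L z) = φ z := fun z => IsLocalization.lift_eq _ z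
  have hψθ₀ : ψL.comp θ₀ = algebraMap B Λ := by
    refine IsLocalization.ringHom_ext (Submonoid.powers t) (RingHom.ext fun z => ?_)
    show ψL (θ₀ (algebraMap A B z)) = algebraMap B Λ (algebraMap A B z)
    rw [hθ₀, hψL, φ.commutes, hBA]
  have hθR : ∀ r, θ₀ (algebraMap R B r) = algebraMap R L r := fun r => by
    rw [IsScalarTower.algebraMap_apply R A B, hθ₀, ← IsScalarTower.algebraMap_apply,
      ← IsScalarTower.algebraMap_apply]
  have hy : ∀ i, ∃ y : L, algebraMap R L ϖ * y = θ₀ (a i) := by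
    intro i
    obtain ⟨⟨x, s⟩, hxs⟩ := IsLocalization.surj (Submonoid.powers t) (a i)
    obtain ⟨k, hk⟩ := s.2
    have hxP : x ∈ P := hP.ge (by
      show algebraMap A Λ x ∈ maximalIdeal Λ
      rw [← hBA, ← hxs, map_mul]
      exact Ideal.mul_mem_right _ _ (haP i))
    obtain ⟨z, hz⟩ := hdiv x hxP
    have hs : IsUnit (θ₀ (algebraMap A B s)) := by
      rw [hθ₀, ← hk]
      exact hAu _ fun h => ht (‹P.IsPrime›.mem_of_pow_mem k h)
    refine ⟨algebraMap A' L z * ↑hs.unit⁻¹, ?_⟩
    rw [← mul_assoc, IsScalarTower.algebraMap_apply R A' L, ← map_mul, hz, ← hθ₀, ← hxs, map_mul, mul_assoc,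
      IsUnit.mul_val_inv, mul_one]
  choose y hy using hy
  let θ₁ : C₁ →+* L := Ideal.Quotient.lift J (MvPolynomial.eval₂Hom θ₀ y) fun q hq => RingHom.mem_ker.1
    ((Ideal.span_le.2 (Set.range_subset_iff.2 fun i => RingHom.mem_ker.2 (by
      rw [map_sub, map_mul, IsScalarTower.algebraMap_apply R B S, MvPolynomial.algebraMap_eq,
        MvPolynomial.eval₂Hom_C, MvPolynomial.eval₂Hom_X', MvPolynomial.eval₂Hom_C, hθR, hy, sub_self]))) hq :
      q ∈ RingHom.ker (MvPolynomial.eval₂Hom θ₀ y))
  have hψy : ∀ i, ψL (y i) = c i := fun i => by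
    have h1 := congrArg ψL (hy i)
    rw [map_mul, show ψL (θ₀ (a i)) = algebraMap B Λ (a i) from RingHom.congr_fun hψθ₀ _, ← hc i,
      show ψL (algebraMap R L ϖ) = algebraMap R Λ ϖ by
        rw [IsScalarTower.algebraMap_apply R A' L, hψL, IsScalarTower.algebraMap_apply R A A', φ.commutes,
          ← IsScalarTower.algebraMap_apply], mul_comm (c i)] at h1
    exact mul_left_cancel₀ hπ0 h1
  have hψθ₁ : ∀ q, ψL (θ₁ q) = γ q := fun q => by
    obtain ⟨q, rfl⟩ := Ideal.Quotient.mk_surjective q
    show ψL (MvPolynomial.eval₂Hom θ₀ y q) = ev q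
    induction q using MvPolynomial.induction_on with
    | C b =>
      rw [MvPolynomial.eval₂Hom_C, show ev (MvPolynomial.C b) = _ from ev.commutes b]
      exact RingHom.congr_fun hψθ₀ b
    | add p q hp hq => simp only [map_add, hp, hq]
    | mul_X p i hp =>
      rw [map_mul, map_mul, map_mul, hp, MvPolynomial.eval₂Hom_X', hψy,
        show ev (MvPolynomial.X i) = c i from MvPolynomial.aeval_X _ _]
  have hLunit : ∀ z : L, IsUnit (ψL z) → IsUnit z :=
    isUnit_of_isUnit_atPrime P' φ.toRingHom (fun q => Iff.rfl) ψL hψL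
  have hMunit : ∀ z : M, IsUnit (γM z) → IsUnit z :=
    isUnit_of_isUnit_atPrime p γ (fun q => Iff.rfl) γM hγM
  let θ : M →+* L := IsLocalization.lift (M := p.primeCompl) (g := θ₁) fun q => hLunit _ (by
    rw [hψθ₁]
    by_contra h
    exact q.2 ((IsLocalRing.mem_maximalIdeal (γ q)).2 h))
  have hθ : ∀ q, θ (algebraMap C₁ M q) = θ₁ q := fun q => IsLocalization.lift_eq _ q
  have hψθ : ψL.comp θ = γM := IsLocalization.ringHom_ext p.primeCompl (RingHom.ext fun q => by
    show ψL (θ (algebraMap C₁ M q)) = γM (algebraMap C₁ M q)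
    rw [hθ, hψθ₁, hγM])
  let ιB : B →+* M := (algebraMap C₁ M).comp ((Ideal.Quotient.mk J).comp MvPolynomial.C)
  have hθB : ∀ b, θ (ιB b) = θ₀ b := fun b => by
    show θ (algebraMap C₁ M (Ideal.Quotient.mk J (MvPolynomial.C b))) = _
    rw [hθ]
    exact MvPolynomial.eval₂Hom_C _ _ b
  have hπM : ιB (algebraMap R B ϖ) = algebraMap R M ϖ := by
    rw [IsScalarTower.algebraMap_apply R C₁ M]
    rfl
  have hθalg : ∀ r, θ (algebraMap R M r) = algebraMap R L r := fun r => by
    rw [IsScalarTower.algebraMap_apply R C₁ M, ← hθR, ← hθB]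
    rfl
  have hπM0 : algebraMap R M ϖ ≠ 0 := fun h => hπ0 (by
    have h1 : γM (algebraMap R M ϖ) = 0 := by rw [h, map_zero]
    rw [IsScalarTower.algebraMap_apply R C₁ M, hγM] at h1
    exact (hev ϖ).symm.trans h1)
  -- every element is, up to a power of `ϖ`, in the image of `B`
  have hB : ∀ q : S, ∃ (n : ℕ) (b : B),
      algebraMap R M ϖ ^ n * algebraMap C₁ M (Ideal.Quotient.mk J q) = ιB b := by
    intro q
    induction q using MvPolynomial.induction_on with
    | C b => exact ⟨0, b, by rw [pow_zero, one_mul]; rfl⟩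
    | add p q hp hq =>
      obtain ⟨n, b, hb⟩ := hp
      obtain ⟨k, b₂, hb₂⟩ := hq
      refine ⟨n + k, algebraMap R B ϖ ^ k * b + algebraMap R B ϖ ^ n * b₂, ?_⟩
      simp only [map_add, map_mul, map_pow, hπM, ← hb, ← hb₂]
      ring
    | mul_X p i hp =>
      obtain ⟨n, b, hb⟩ := hp
      refine ⟨n + 1, b * a i, ?_⟩
      have h0 : Ideal.Quotient.mk J (algebraMap R S ϖ * MvPolynomial.X i - MvPolynomial.C (a i)) = 0 :=
        Ideal.Quotient.eq_zero_iff_mem.2 (Ideal.subset_span ⟨i, rfl⟩)
      rw [map_sub, map_mul, sub_eq_zero] at h0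
      have h1 : ιB (a i) = algebraMap R M ϖ * algebraMap C₁ M (Ideal.Quotient.mk J (MvPolynomial.X i)) := by
        show algebraMap C₁ M (Ideal.Quotient.mk J (MvPolynomial.C (a i))) = _
        rw [← h0, map_mul, IsScalarTower.algebraMap_apply R C₁ M]
        rfl
      rw [map_mul ιB, ← hb, h1, map_mul, map_mul]
      ring
  have hπL : ∀ n : ℕ, ∀ z w : L, algebraMap R L ϖ ^ n * z = algebraMap R L ϖ ^ n * w → z = w := by
    intro n z w h
    obtain ⟨⟨z', s⟩, hz⟩ := IsLocalization.surj P'.primeCompl (z - w)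
    have h0 : algebraMap A' L (algebraMap R A' ϖ ^ n * z') = 0 := by
      rw [map_mul, map_pow, ← IsScalarTower.algebraMap_apply, ← hz, ← mul_assoc, mul_sub, h, sub_self, zero_mul]
    obtain ⟨u, hu⟩ := (IsLocalization.map_eq_zero_iff P'.primeCompl _ _).1 h0
    rw [mul_left_comm] at hu
    have hz0 : algebraMap A' L z' = 0 := (IsLocalization.map_eq_zero_iff P'.primeCompl _ _).2
      ⟨u, (hreg.pow n).left.eq_iff.1 (hu.trans (mul_zero _).symm)⟩
    rw [hz0] at hz
    exact sub_eq_zero.1 ((IsLocalization.map_units L s).mul_left_eq_zero.1 hz)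
  have hinj : Function.Injective θ := (injective_iff_map_eq_zero θ).2 fun x hx => by
    obtain ⟨⟨q, s⟩, hxs⟩ := IsLocalization.surj p.primeCompl x
    obtain ⟨q, rfl⟩ := Ideal.Quotient.mk_surjective q
    obtain ⟨n, b, hb⟩ := hB q
    obtain ⟨⟨z, s'⟩, hzs⟩ := IsLocalization.surj (Submonoid.powers t) b
    have hb0 : θ₀ b = 0 := by
      rw [← hθB, ← hb, map_mul, ← hxs, map_mul, hx, zero_mul, mul_zero]
    have hz0 : algebraMap A' L (algebraMap A A' z) = 0 := by
      rw [← hθ₀, ← hzs, map_mul, hb0, zero_mul]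
    obtain ⟨⟨u, hu'⟩, hu⟩ := (IsLocalization.map_eq_zero_iff P'.primeCompl _ _).1 hz0
    obtain ⟨k, w, hw⟩ := hfrac u
    have hu2 : algebraMap A A' (w * z) = 0 := by
      rw [map_mul, ← hw, mul_assoc, hu, mul_zero]
    have hw0 : algebraMap A Λ w ≠ 0 := by
      rw [← φ.commutes, ← hw, map_mul, map_pow, IsScalarTower.algebraMap_apply R A A', φ.commutes,
        ← IsScalarTower.algebraMap_apply]
      exact mul_ne_zero (pow_ne_zero _ hπ0) fun h => hu' (by
        show φ u ∈ maximalIdeal Λ
        rw [h]; exact Submodule.zero_mem _)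
    have hwz : w * z = 0 := hinjA (hu2.trans (map_zero _).symm)
    have hγB : ∀ b', γM (ιB b') = algebraMap B Λ b' := fun b' => by
      show γM (algebraMap C₁ M _) = _
      rw [hγM]
      exact ev.commutes b'
    have hz1 : ιB (algebraMap A B z) = 0 := by
      have h1 : ιB (algebraMap A B w) * ιB (algebraMap A B z) = 0 := by
        rw [← map_mul, ← map_mul, hwz, map_zero, map_zero]
      refine (mul_eq_zero.1 h1).resolve_left fun h => hw0 ?_
      rw [← hBA, ← hγB, h, map_zero]
    rw [← hzs, map_mul] at hz1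
    have hb1 : ιB b = 0 := by
      refine (mul_eq_zero.1 hz1).resolve_right fun h => ?_
      obtain ⟨k, hk⟩ := s'.2
      have h2 : algebraMap A Λ (s' : A) = 0 := by rw [← hBA, ← hγB, h, map_zero]
      rw [← hk] at h2
      exact (pow_ne_zero k (hunit t ht).ne_zero) ((map_pow _ t k).symm.trans h2)
    rw [hb1, mul_eq_zero, or_iff_right (pow_ne_zero n hπM0)] at hb
    rw [hb] at hxs
    exact (mul_eq_zero.1 hxs).resolve_right (IsLocalization.map_units M s).ne_zero
  have hrange : ∀ z : A', algebraMap A' L z ∈ θ.range := by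
    let T : Subalgebra A A' :=
      { carrier := {z | algebraMap A' L z ∈ θ.range}
        mul_mem' := fun {x y} hx hy => by
          show algebraMap A' L (x * y) ∈ θ.range
          rw [map_mul]; exact θ.range.mul_mem hx hy
        add_mem' := fun {x y} hx hy => by
          show algebraMap A' L (x + y) ∈ θ.range
          rw [map_add]; exact θ.range.add_mem hx hy
        algebraMap_mem' := fun x => ⟨ιB (algebraMap A B x), by rw [hθB, hθ₀]⟩ }
    suffices h : Algebra.adjoin A {z : A' | ∃ x ∈ P, algebraMap R A' ϖ * z = algebraMap A A' x} ≤ T by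
      intro z
      exact h (by rw [hgen]; trivial)
    refine Algebra.adjoin_le ?_
    rintro z ⟨x, hx, hxz⟩
    show algebraMap A' L z ∈ θ.range
    have hxB : algebraMap A B x ∈ PB := by
      show algebraMap B Λ (algebraMap A B x) ∈ maximalIdeal Λ
      rw [hBA]; exact hP.le hx
    obtain ⟨u, hu, hux⟩ := hgenP _ hxB
    have key : ∀ b' ∈ Ideal.span (insert (algebraMap R B ϖ) (Set.range a)),
        ∃ m : M, θ₀ b' = algebraMap R L ϖ * θ m := by
      intro b' hb'
      induction hb' using Submodule.span_induction with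
      | mem b' hb' =>
        rcases hb' with rfl | ⟨i, rfl⟩
        · exact ⟨1, by rw [hθR, map_one, mul_one]⟩
        · exact ⟨algebraMap C₁ M (Ideal.Quotient.mk J (MvPolynomial.X i)), by
            rw [hθ, show θ₁ (Ideal.Quotient.mk J (MvPolynomial.X i)) = y i from
              MvPolynomial.eval₂Hom_X' _ _ i, hy]⟩
      | zero => exact ⟨0, by rw [map_zero, map_zero, mul_zero]⟩
      | add b₁ b₂ _ _ h₁ h₂ =>
        obtain ⟨m₁, h₁⟩ := h₁
        obtain ⟨m₂, h₂⟩ := h₂
        exact ⟨m₁ + m₂, by rw [map_add, map_add, h₁, h₂, mul_add]⟩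
      | smul r b' _ h' =>
        obtain ⟨m, h'⟩ := h'
        exact ⟨ιB r * m, by rw [smul_eq_mul, map_mul, map_mul, h', hθB, mul_left_comm]⟩
    obtain ⟨m, hm'⟩ := key _ hux
    have huu : IsUnit (ιB u) := hMunit _ (by
      rw [show γM (ιB u) = algebraMap B Λ u by
        show γM (algebraMap C₁ M _) = _
        rw [hγM]; exact ev.commutes u]
      by_contra h
      exact hu ((IsLocalRing.mem_maximalIdeal (algebraMap B Λ u)).2 h))
    refine ⟨↑huu.unit⁻¹ * m, hπL 1 _ _ ?_⟩
    rw [pow_one, map_mul, mul_left_comm, ← hm', map_mul θ₀, ← hθB u, ← mul_assoc, ← map_mul θ,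
      IsUnit.val_inv_mul, map_one, one_mul, hθ₀, ← hxz, map_mul, ← IsScalarTower.algebraMap_apply]
  have hsurj : Function.Surjective θ := fun x => by
    obtain ⟨⟨z, s⟩, hxs⟩ := IsLocalization.surj P'.primeCompl x
    obtain ⟨m₁, h₁⟩ := hrange z
    obtain ⟨m₂, h₂⟩ := hrange s
    have hu : IsUnit m₂ := hMunit _ (by
      rw [← hψθ]
      show IsUnit (ψL (θ m₂))
      rw [h₂, hψL]
      by_contra h
      exact s.2 ((IsLocalRing.mem_maximalIdeal (φ (s : A'))).2 h))
    refine ⟨m₁ * ↑hu.unit⁻¹, (IsLocalization.map_units L s).mul_right_cancel ?_⟩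
    rw [hxs, ← h₂, ← map_mul, mul_assoc, IsUnit.val_inv_mul, mul_one, h₁]
  let eθ : M ≃ₐ[R] L := AlgEquiv.ofBijective { θ with commutes' := hθalg } ⟨hinj, hsurj⟩
  show Algebra.FormallySmooth R L
  haveI : Algebra.FormallySmooth R M := hsm1
  exact Algebra.FormallySmooth.of_equiv eθ

/-- The statement for the affine blow-up algebra inside the localisation. -/
theorem isSmoothAt_affineAlgebra [Module.Flat R A] [Algebra.FinitePresentation R A] (ϖ : R)
    (hR : maximalIdeal R = Ideal.span {ϖ}) (hm : maximalIdeal Λ = Ideal.span {algebraMap R Λ ϖ})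
    (hsm : Algebra.IsSmoothAt R ((maximalIdeal Λ).comap (algebraMap A Λ)))
    (φ : BlowUp.affineAlgebra A ((maximalIdeal Λ).comap (algebraMap A Λ)) (algebraMap R A ϖ) →ₐ[A] Λ) :
    Algebra.IsSmoothAt R ((maximalIdeal Λ).comap φ.toRingHom) := by
  let P := (maximalIdeal Λ).comap (algebraMap A Λ)
  let f := algebraMap R A ϖ
  let L := Localization.Away f
  let A' := BlowUp.affineAlgebra A P f
  have hϖ0 : ϖ ≠ 0 := fun h => IsDiscreteValuationRing.not_a_field R (by
    rw [hR, h, Ideal.span_singleton_eq_bot])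
  have hf : IsRegular f := by
    have h1 : IsSMulRegular A f := IsSMulRegular.of_flat (IsRegular.of_ne_zero hϖ0).left.isSMulRegular
    have h2 : IsLeftRegular f := h1
    exact isLeftRegular_iff_isRegular.1 h2
  have hinj : Function.Injective (algebraMap A L) := IsLocalization.injective L
    (M := Submonoid.powers f) (by
      rintro _ ⟨n, rfl⟩
      exact isRegular_iff_mem_nonZeroDivisors.1 (hf.pow n))
  have hfu : IsUnit (algebraMap A L f) := IsLocalization.Away.algebraMap_isUnit f
  have hfA : ((algebraMap R A' ϖ : A') : L) = algebraMap A L f := by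
    rw [IsScalarTower.algebraMap_apply R A A']; rfl
  refine isSmoothAt_blowUp ϖ hR hm P rfl hsm A' φ (fun x y h => hinj (congrArg Subtype.val h)) ?_ ?_ ?_ ?_
  · have h2 : IsLeftRegular (algebraMap R A' ϖ) := fun x y h => Subtype.ext <| hfu.mul_left_cancel (by
      have := congrArg Subtype.val h
      simpa [hfA] using this)
    exact isLeftRegular_iff_isRegular.1 h2
  · intro a'
    obtain ⟨⟨x, s⟩, hxs⟩ := IsLocalization.surj (Submonoid.powers f) (a' : L)
    obtain ⟨n, hn⟩ := s.2
    refine ⟨n, x, Subtype.ext ?_⟩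
    show ((algebraMap R A' ϖ ^ n * a' : A') : L) = algebraMap A L x
    rw [← hxs, ← hn]
    simp [hfA, mul_comm]
    rfl
  · refine eq_top_iff.2 fun z _ => ?_
    obtain ⟨z, hz⟩ := z
    have : z ∈ (Algebra.adjoin A {z : A' | ∃ x ∈ P, algebraMap R A' ϖ * z = algebraMap A A' x}).map A'.val := by
      refine Algebra.adjoin_le ?_ hz
      rintro q ⟨x, hx, rfl⟩
      refine ⟨⟨_, Algebra.subset_adjoin ⟨x, hx, rfl⟩⟩, Algebra.subset_adjoin ⟨x, hx, Subtype.ext ?_⟩, rfl⟩
      show ((algebraMap R A' ϖ : A') : L) * _ = algebraMap A L x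
      rw [hfA]
      exact IsLocalization.mk'_spec' L x ⟨f, Submonoid.mem_powers f⟩
    obtain ⟨w, hw, hwz⟩ := this
    rwa [show (⟨z, hz⟩ : A') = w from Subtype.ext hwz.symm]
  · intro x hx
    refine ⟨⟨_, Algebra.subset_adjoin ⟨x, hx, rfl⟩⟩, Subtype.ext ?_⟩
    show ((algebraMap R A' ϖ : A') : L) * _ = algebraMap A L x
    rw [hfA]
    exact IsLocalization.mk'_spec' L x ⟨f, Submonoid.mem_powers f⟩

end Groth.Agent.NeronH7
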