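import Mathlib
import Groth.Agent.Lib.NeronH7.Main

/-!
Smoothness spreads from the kernel of a map to a discrete valuation ring to the closed point when the
differentials pull back to a free module.
-/

set_option autoImplicit false

universe u

open TensorProduct IsLocalRing

namespace Groth.Agent.NeronH7

/-- The derivation `b ↦ 1 ⊗ db`. -/
noncomputable def tD (R Λ B : Type u) [CommRing R] [CommRing Λ] [CommRing B] [Algebra R B] [Algebra R Λ]
    [Algebra B Λ] [IsScalarTower R B Λ] : Derivation R B (Λ ⊗[B] Ω[B⁄R]) :=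
  (TensorProduct.mk B Λ Ω[B⁄R] 1).compDer (KaehlerDifferential.D R B)

section

variable {R Λ B A : Type u} [CommRing R] [CommRing Λ] [CommRing B] [CommRing A] [Algebra R B] [Algebra R A]
  [Algebra R Λ] [Algebra B A] [Algebra A Λ] [Algebra B Λ] [IsScalarTower R B A] [IsScalarTower R A Λ]
  [IsScalarTower R B Λ] [IsScalarTower B A Λ]

theorem tD_apply (b : B) : tD R Λ B b = (1 : Λ) ⊗ₜ[B] KaehlerDifferential.D R B b := rfl

/-- The span of the differentials of the kernel of a map. -/
noncomputable def kerSpan (R Λ B A : Type u) [CommRing R] [CommRing Λ] [CommRing B] [CommRing A] [Algebra R B]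
    [Algebra R Λ] [Algebra B A] [Algebra B Λ] [IsScalarTower R B Λ] : Submodule Λ (Λ ⊗[B] Ω[B⁄R]) :=
  Submodule.span Λ (Set.range fun x : RingHom.ker (algebraMap B A) => tD R Λ B x.1)

theorem mem_kerSpan_of_smul [IsDomain Λ] [Module.IsTorsionFree Λ (Λ ⊗[A] Ω[A⁄R])]
    (hq : Function.Surjective (algebraMap B A)) (c : Λ) (hc : c ≠ 0) (w : Λ ⊗[B] Ω[B⁄R])
    (hw : c • w ∈ kerSpan R Λ B A) : w ∈ kerSpan R Λ B A := by
  classical
  let T := Λ ⊗[A] Ω[A⁄R]
  let dT : Derivation R B T := (tD R Λ A).compAlgebraMap B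
  let Ψ : Λ ⊗[B] Ω[B⁄R] →ₗ[Λ] T := dT.liftKaehlerDifferential.liftBaseChange Λ
  have hΨ : ∀ b, Ψ (tD R Λ B b) = tD R Λ A (algebraMap B A b) := fun b => by
    simp [Ψ, dT, tD_apply]
  have hΨ0 : kerSpan R Λ B A ≤ LinearMap.ker Ψ := Submodule.span_le.2 <| by
    rintro _ ⟨⟨x, hx⟩, rfl⟩
    show Ψ _ = 0
    rw [hΨ, RingHom.mem_ker.1 hx, map_zero]
  have hw0 : Ψ w = 0 := by
    have h1 : c • Ψ w = 0 := by rw [← map_smul]; exact hΨ0 hw
    exact (smul_eq_zero.1 h1).resolve_left hc
  let N := (Λ ⊗[B] Ω[B⁄R]) ⧸ kerSpan R Λ B A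
  have hAN : ∀ (a : A) (n : N), a • n = algebraMap A Λ a • n := fun a n => (algebraMap_smul Λ a n).symm
  haveI : IsScalarTower R A N := IsScalarTower.of_algebraMap_smul fun r n => by
    rw [hAN, ← IsScalarTower.algebraMap_apply, algebraMap_smul]
  let d : B →ₗ[R] N := ((kerSpan R Λ B A).mkQ.restrictScalars R) ∘ₗ (tD R Λ B).toLinearMap
  have hd : ∀ x y, algebraMap B A x = algebraMap B A y → d x = d y := fun x y h => by
    refine (Submodule.Quotient.eq _).2 ?_
    show tD R Λ B x - tD R Λ B y ∈ _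
    rw [← map_sub]
    exact Submodule.subset_span ⟨⟨x - y, RingHom.mem_ker.2 (by rw [map_sub, h, sub_self])⟩, rfl⟩
  choose s hs using hq
  let dA : Derivation R A N := Derivation.mk'
    { toFun := fun a => d (s a)
      map_add' := fun x y => by
        rw [hd (s (x + y)) (s x + s y) (by rw [map_add, hs, hs, hs]), map_add]
      map_smul' := fun r x => by
        rw [RingHom.id_apply, hd (s (r • x)) (r • s x)
          (by rw [hs]; exact ((map_smul (IsScalarTower.toAlgHom R B A) r (s x)).trans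
            (congrArg (r • ·) (hs x))).symm), map_smul] }
    fun x y => by
      show d (s (x * y)) = x • d (s y) + y • d (s x)
      rw [hAN, hAN]
      rw [hd (s (x * y)) (s x * s y) (by rw [map_mul, hs, hs, hs])]
      show Submodule.Quotient.mk (tD R Λ B (s x * s y)) = algebraMap A Λ x • Submodule.Quotient.mk (tD R Λ B (s y))
        + algebraMap A Λ y • Submodule.Quotient.mk (tD R Λ B (s x))
      rw [Derivation.leibniz, Submodule.Quotient.mk_add, ← algebraMap_smul Λ (s x), ← algebraMap_smul Λ (s y),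
        IsScalarTower.algebraMap_apply B A Λ, IsScalarTower.algebraMap_apply B A Λ, hs, hs,
        Submodule.Quotient.mk_smul, Submodule.Quotient.mk_smul]
  let l : T →ₗ[Λ] N := dA.liftKaehlerDifferential.liftBaseChange Λ
  have hl : ∀ ω, l (Ψ ((1 : Λ) ⊗ₜ[B] ω)) = Submodule.Quotient.mk ((1 : Λ) ⊗ₜ[B] ω) := fun ω => by
    induction (by rw [KaehlerDifferential.span_range_derivation]; trivial :
        ω ∈ Submodule.span B (Set.range (KaehlerDifferential.D R B))) using Submodule.span_induction with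
    | mem z hz =>
      obtain ⟨b, rfl⟩ := hz
      show l (Ψ (tD R Λ B b)) = d b
      rw [hΨ, ← hd (s (algebraMap B A b)) b (hs _), tD_apply]
      show (dA.liftKaehlerDifferential.liftBaseChange Λ) _ = _
      rw [LinearMap.liftBaseChange_tmul, one_smul, Derivation.liftKaehlerDifferential_comp_D]
      rfl
    | zero => simp
    | add x y _ _ hx hy => simp only [tmul_add, map_add, hx, hy, Submodule.Quotient.mk_add]
    | smul b x _ hx =>
      rw [tmul_smul, ← algebraMap_smul Λ b ((1 : Λ) ⊗ₜ[B] x), map_smul, map_smul, hx,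
        Submodule.Quotient.mk_smul]
  have hl' : l ∘ₗ Ψ = (kerSpan R Λ B A).mkQ := by
    refine TensorProduct.AlgebraTensorModule.ext fun lam ω => ?_
    rw [show lam ⊗ₜ[B] ω = lam • ((1 : Λ) ⊗ₜ[B] ω) by rw [TensorProduct.smul_tmul', smul_eq_mul, mul_one],
      map_smul, map_smul, LinearMap.comp_apply, hl]
    rfl
  have := LinearMap.congr_fun hl' w
  rw [LinearMap.comp_apply, hw0, map_zero] at this
  exact (Submodule.Quotient.mk_eq_zero _).1 this.symm

end

section

variable {R Λ B : Type u} [CommRing R] [CommRing Λ] [IsDomain Λ]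
  [CommRing B] [Algebra R B] [Algebra R Λ] [Algebra B Λ] [IsScalarTower R B Λ]

/-- Jacobian data make derivations detect the ideal. -/
theorem detect_of_jacobian (I Q : Ideal B) [Q.IsPrime] (hIQ : I ≤ Q) {m : ℕ} (g : Fin m → B)
    (D : Fin m → Derivation R B B) (hg : ∀ i, g i ∈ I)
    (hgen : ∀ x ∈ I, ∃ w, w ∉ Q ∧ w * x ∈ Ideal.span (Set.range g))
    (hΔ : Matrix.det (Matrix.of fun i j => D j (g i)) ∉ Q)
    (x : B) (hx : x ∈ I) (h : ∀ s : Derivation R B B, s x ∈ Q) :
    algebraMap B (Localization.AtPrime Q) x ∈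
      maximalIdeal (Localization.AtPrime Q) • I.map (algebraMap B (Localization.AtPrime Q)) := by
  classical
  obtain ⟨w, hw, hwx⟩ := hgen x hx
  obtain ⟨a, ha⟩ := (Ideal.mem_span_range_iff_exists_fun (R := B)).1 hwx
  have h1 : ∀ j, ∑ i, a i * D j (g i) ∈ Q := fun j => by
    have h2 : D j (w * x) ∈ Q := by
      rw [Derivation.leibniz, smul_eq_mul, smul_eq_mul]
      exact Q.add_mem (Q.mul_mem_left _ (h (D j))) (Q.mul_mem_right _ (hIQ hx))
    rw [← ha, map_sum] at h2
    simp only [Derivation.leibniz, smul_eq_mul, Finset.sum_add_distrib] at h2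
    exact (Q.add_mem_iff_left (Q.sum_mem fun i _ => Q.mul_mem_right _ (hIQ (hg i)))).1 h2
  have h3 : ∀ i, a i ∈ Q := fun i => by
    let M : Matrix (Fin m) (Fin m) B := Matrix.of fun i j => D j (g i)
    have h4 : (∑ j, (∑ l, a l * M l j) * M.adjugate j i) ∈ Q :=
      Q.sum_mem fun j _ => Q.mul_mem_right _ (h1 j)
    replace h4 : (Matrix.vecMul (Matrix.vecMul a M) M.adjugate) i ∈ Q := h4
    rw [Matrix.vecMul_vecMul, Matrix.mul_adjugate, Matrix.vecMul_smul, Matrix.vecMul_one,
      Pi.smul_apply, smul_eq_mul] at h4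
    exact (‹Q.IsPrime›.mem_or_mem h4).resolve_left hΔ
  refine (Ideal.unit_mul_mem_iff_mem _
    (IsLocalization.map_units (Localization.AtPrime Q) (⟨w, hw⟩ : Q.primeCompl))).1 ?_
  rw [← map_mul, ← ha, map_sum, Ideal.smul_eq_mul]
  refine Ideal.sum_mem _ fun i _ => ?_
  rw [map_mul]
  refine Ideal.mul_mem_mul ?_ (Ideal.mem_map_of_mem _ (hg i))
  rw [← Localization.AtPrime.map_eq_maximalIdeal]
  exact Ideal.mem_map_of_mem _ (h3 i)

/-- An ideal generically generated by `m` elements has no minor of size `m + 1`. -/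
theorem noBigger_of_gen (I : Ideal B) (hI : I ≤ RingHom.ker (algebraMap B Λ)) {m : ℕ} (g : Fin m → B)
    (hg : ∀ i, g i ∈ I) (hgen : ∀ x ∈ I, ∃ w, algebraMap B Λ w ≠ 0 ∧ w * x ∈ Ideal.span (Set.range g)) :
    NoBigger R Λ I m := by
  classical
  intro f E hf
  choose w hw hwx using fun i => hgen (f i) (hf i)
  choose a ha using fun i => (Ideal.mem_span_range_iff_exists_fun (R := B)).1 (hwx i)
  let C : Fin m ⊕ Unit → Fin m → Λ := fun i l => algebraMap B Λ (a i l)
  have hdep : ¬ LinearIndependent Λ C := fun h => by simpa using h.fintype_card_le_finrank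
  rw [Fintype.not_linearIndependent_iff] at hdep
  obtain ⟨c, hc, i₀, hi₀⟩ := hdep
  let W : Matrix (Fin m ⊕ Unit) (Fin m ⊕ Unit) Λ :=
    Matrix.of fun i j => algebraMap B Λ (w i) * (Matrix.of fun i j => E j (f i)) i j
  have hW : W.det = 0 := by
    refine Matrix.exists_vecMul_eq_zero_iff.1 ⟨c, fun h => hi₀ (congrFun h i₀), funext fun j => ?_⟩
    have h1 : ∀ i, W i j = ∑ l, C i l * E j (g l) := fun i => by
      have h2 := congrArg (E j) (ha i)
      rw [map_sum] at h2
      simp only [Derivation.leibniz, Algebra.smul_def] at h2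
      have h3 : algebraMap B Λ (f i) = 0 := RingHom.mem_ker.1 (hI (hf i))
      have h4 : ∀ l, algebraMap B Λ (g l) = 0 := fun l => RingHom.mem_ker.1 (hI (hg l))
      simp only [h3, h4, zero_mul, add_zero] at h2
      exact h2.symm
    show ∑ i, c i * W i j = 0
    simp only [h1, Finset.mul_sum]
    rw [Finset.sum_comm]
    refine Finset.sum_eq_zero fun l _ => ?_
    simp only [← mul_assoc, ← Finset.sum_mul]
    rw [show ∑ i, c i * C i l = 0 by simpa [Finset.sum_apply] using congrFun hc l, zero_mul]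
  rw [Matrix.det_mul_column] at hW
  exact (mul_eq_zero.1 hW).resolve_left (Finset.prod_ne_zero_iff.2 fun i _ h => hw i h)

/-- If the span of the differentials of `I` is saturated, a minor of maximal size has unit determinant. -/
theorem exists_unit_det [IsDiscreteValuationRing Λ] [Algebra.FormallySmooth R B] (I : Ideal B)
    (hI : I ≤ RingHom.ker (algebraMap B Λ))
    (hsat : ∀ (c : Λ), c ≠ 0 → ∀ w : Λ ⊗[B] Ω[B⁄R],
      c • w ∈ Submodule.span Λ (Set.range fun x : I => tD R Λ B x.1) →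
      w ∈ Submodule.span Λ (Set.range fun x : I => tD R Λ B x.1))
    {m : ℕ} (g : Fin m → B) (E₀ : Fin m → Derivation R B Λ) (hg : ∀ i, g i ∈ I)
    (hne : Matrix.det (Matrix.of fun i j => E₀ j (g i)) ≠ 0) :
    ∃ (f : Fin m → B) (D : Fin m → Derivation R B B), (∀ i, f i ∈ I) ∧
      algebraMap B Λ (Matrix.det (Matrix.of fun i j => D j (f i))) ∉ maximalIdeal Λ := by
  classical
  let P : Ideal B := (maximalIdeal Λ).comap (algebraMap B Λ)
  haveI : P.IsPrime := Ideal.IsPrime.comap _
  obtain ⟨ϖ, hϖ⟩ := IsDiscreteValuationRing.exists_irreducible Λ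
  let Pr : ℕ → Prop := fun k => ∃ (f : Fin m → B) (E : Fin m → Derivation R B Λ), (∀ i, f i ∈ I) ∧
    Associated (Matrix.det (Matrix.of fun i j => E j (f i))) (ϖ ^ k)
  have hex : ∃ k, Pr k := by
    obtain ⟨k, hk⟩ := IsDiscreteValuationRing.associated_pow_irreducible hne hϖ
    exact ⟨k, g, E₀, hg, hk⟩
  obtain ⟨f, E, hf, hassoc⟩ := Nat.find_spec hex
  have hmin : ∀ (f' : Fin m → B), (∀ i, f' i ∈ I) →
      ϖ ^ Nat.find hex ∣ Matrix.det (Matrix.of fun i j => E j (f' i)) := fun f' hf' => by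
    by_cases h : Matrix.det (Matrix.of fun i j => E j (f' i)) = 0
    · rw [h]; exact dvd_zero _
    · obtain ⟨k, hk⟩ := IsDiscreteValuationRing.associated_pow_irreducible h hϖ
      exact (pow_dvd_pow ϖ (Nat.find_min' hex ⟨f', E, hf', hk⟩)).trans hk.symm.dvd
  have hf0 : ∀ i, algebraMap B Λ (f i) = 0 := fun i => RingHom.mem_ker.1 (hI (hf i))
  have hfP : ∀ i, f i ∈ P := fun i => by
    show algebraMap B Λ (f i) ∈ maximalIdeal Λ
    rw [hf0]
    exact Submodule.zero_mem _
  refine ⟨f, ?_⟩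
  suffices ∃ D : Fin m → Derivation R B B, Matrix.det (Matrix.of fun i j => D j (f i)) ∉ P by
    obtain ⟨D, hD⟩ := this
    exact ⟨D, hf, hD⟩
  refine (exists_det_or_relation P f hfP).resolve_right ?_
  rintro ⟨b, k, hbk, hrel⟩
  let F := Λ ⊗[B] Ω[B⁄R]
  have hm : maximalIdeal Λ = Ideal.span {ϖ} := hϖ.maximalIdeal_eq
  have hN : tD R Λ B (∑ i, b i * f i) ∈ (LinearMap.range (LinearMap.lsmul Λ F ϖ)).restrictScalars B := by
    refine derivation_mem_of_forall _ P (fun p hp z => ?_) _ _ hrel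
    obtain ⟨c, hc⟩ := Ideal.mem_span_singleton'.1 (hm ▸ hp : algebraMap B Λ p ∈ Ideal.span {ϖ})
    refine ⟨c • z, ?_⟩
    rw [LinearMap.lsmul_apply, smul_smul, mul_comm, hc, algebraMap_smul]
  obtain ⟨w, hw⟩ := hN
  rw [LinearMap.lsmul_apply] at hw
  have hxI : (∑ i, b i * f i) ∈ I := I.sum_mem fun i _ => I.mul_mem_left _ (hf i)
  have hwmem := hsat ϖ hϖ.ne_zero w (by
    rw [hw]; exact Submodule.subset_span ⟨⟨_, hxI⟩, rfl⟩)
  let M : Matrix (Fin m) (Fin m) Λ := Matrix.of fun i j => E j (f i)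
  let φ : F →ₗ[Λ] (Fin m → Λ) := LinearMap.pi fun j => (E j).liftKaehlerDifferential.liftBaseChange Λ
  let L : F →ₗ[Λ] Λ :=
    ((Matrix.detRowAlternating : (Fin m → Λ) [⋀^Fin m]→ₗ[Λ] Λ).toMultilinearMap.toLinearMap M k) ∘ₗ φ
  have hL : ∀ z, L z = (M.updateRow k (φ z)).det := fun z => rfl
  have hφ : ∀ y, φ (tD R Λ B y) = fun j => E j y := fun y => funext fun j => by
    show ((E j).liftKaehlerDifferential.liftBaseChange Λ) (tD R Λ B y) = E j y
    rw [tD_apply, LinearMap.liftBaseChange_tmul, one_smul]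
    exact Derivation.liftKaehlerDifferential_comp_D (E j) y
  have hdiv : ∀ z ∈ Submodule.span Λ (Set.range fun x : I => tD R Λ B x.1), ϖ ^ Nat.find hex ∣ L z := by
    intro z hz
    induction hz using Submodule.span_induction with
    | mem z hz =>
      obtain ⟨⟨y, hy⟩, rfl⟩ := hz
      rw [hL, hφ]
      have e : M.updateRow k (fun j => E j y) = Matrix.of fun i j => E j (Function.update f k y i) := by
        ext1 i j
        by_cases hi : i = k
        · subst hi; simp
        · simp [hi, M]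
      rw [e]
      refine hmin _ fun i => ?_
      by_cases hi : i = k
      · subst hi; simpa using hy
      · simpa [hi] using hf i
    | zero => rw [map_zero]; exact dvd_zero _
    | add x y _ _ hx hy => rw [map_add]; exact dvd_add hx hy
    | smul c x _ hx => rw [map_smul, smul_eq_mul]; exact dvd_mul_of_dvd_right hx c
  have h1 : ϖ * L w = algebraMap B Λ (b k) * M.det := by
    rw [← smul_eq_mul, ← map_smul, hw, hL, hφ]
    have e : (fun j => E j (∑ i, b i * f i)) = ∑ i, algebraMap B Λ (b i) • M i := by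
      funext j
      rw [map_sum, Finset.sum_apply]
      refine Finset.sum_congr rfl fun i _ => ?_
      rw [Derivation.leibniz, Algebra.smul_def, Algebra.smul_def, hf0, zero_mul, add_zero]
      rfl
    rw [e, Matrix.det_updateRow_sum, smul_eq_mul]
  have h2 : ϖ ^ (Nat.find hex + 1) ∣ ϖ ^ Nat.find hex := by
    have hu : IsUnit (algebraMap B Λ (b k)) := by
      by_contra h
      exact hbk ((IsLocalRing.mem_maximalIdeal (algebraMap B Λ (b k))).2 h)
    have h3 : ϖ ^ (Nat.find hex + 1) ∣ algebraMap B Λ (b k) * M.det := by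
      rw [← h1, pow_succ']; exact mul_dvd_mul_left _ (hdiv w hwmem)
    exact (hu.dvd_mul_left.1 h3).trans hassoc.dvd
  exact hϖ.not_isUnit (isUnit_of_dvd_one <| (mul_dvd_mul_iff_left (pow_ne_zero (Nat.find hex) hϖ.ne_zero)).1
    (by rwa [mul_one, ← pow_succ]))

end

variable {R Λ A : Type u} [CommRing R] [IsDomain R] [IsDiscreteValuationRing R]
  [CommRing Λ] [IsDomain Λ] [IsDiscreteValuationRing Λ] [Algebra R Λ]
  [CommRing A] [Algebra R A] [Algebra A Λ] [IsScalarTower R A Λ]

theorem isSmoothAt_of_free_aux {B : Type u} [CommRing B] [Algebra R B] [Algebra B A] [Algebra B Λ]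
    [IsScalarTower R B A] [IsScalarTower R B Λ] [IsScalarTower B A Λ] [Algebra.Smooth R B]
    (hqs : Function.Surjective (algebraMap B A))
    [(RingHom.ker (algebraMap A Λ)).IsPrime]
    (hq : Algebra.IsSmoothAt R (RingHom.ker (algebraMap A Λ)))
    (hfree : Module.Free Λ (Λ ⊗[A] Ω[A⁄R])) :
    Algebra.IsSmoothAt R ((maximalIdeal Λ).comap (algebraMap A Λ)) := by
  classical
  haveI : IsNoetherianRing B := Algebra.FiniteType.isNoetherianRing R B
  let I : Ideal B := RingHom.ker (algebraMap B A)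
  let Q : Ideal B := RingHom.ker (algebraMap B Λ)
  let P : Ideal B := (maximalIdeal Λ).comap (algebraMap B Λ)
  let qA : Ideal A := RingHom.ker (algebraMap A Λ)
  let pA : Ideal A := (maximalIdeal Λ).comap (algebraMap A Λ)
  haveI : pA.IsPrime := Ideal.IsPrime.comap _
  haveI : P.IsPrime := Ideal.IsPrime.comap _
  haveI : Q.IsPrime := RingHom.ker_isPrime _
  haveI : qA.IsPrime := ‹_›
  have htow : ∀ b, algebraMap A Λ (algebraMap B A b) = algebraMap B Λ b := fun b =>
    (IsScalarTower.algebraMap_apply B A Λ b).symm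
  have hIQ : I ≤ Q := fun x hx => RingHom.mem_ker.2 (by rw [← htow, RingHom.mem_ker.1 hx, map_zero])
  obtain ⟨m, g, D', hg, hgen, hΔ⟩ :=
    (LeftInv.formallySmooth_localization_iff_jacobian (A := R) (B := B) (C := A) hqs qA).1 hq
  have hgen' : ∀ x ∈ I, ∃ w, algebraMap B Λ w ≠ 0 ∧ w * x ∈ Ideal.span (Set.range g) := fun x hx =>
    (hgen x hx).imp fun w hw => ⟨fun h => hw.1 (RingHom.mem_ker.2 (by rw [htow, h])), hw.2⟩
  have hΔ' : algebraMap B Λ (Matrix.det (Matrix.of fun i j => D' j (g i))) ≠ 0 := fun h =>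
    hΔ (RingHom.mem_ker.2 (by rw [htow, h]))
  haveI : Module.Free Λ (Λ ⊗[A] Ω[A⁄R]) := hfree
  obtain ⟨f, D, hf, hD⟩ := exists_unit_det I hIQ
    (fun c hc w hw => mem_kerSpan_of_smul (R := R) (A := A) hqs c hc w hw) g
    (fun j => (Algebra.linearMap B Λ).compDer (D' j)) hg (by
      rw [show (Matrix.of fun i j => ((Algebra.linearMap B Λ).compDer (D' j)) (g i)) =
        (algebraMap B Λ).mapMatrix (Matrix.of fun i j => D' j (g i)) from rfl, ← RingHom.map_det]
      exact hΔ')
  have hmax := noBigger_of_gen (R := R) I hIQ g hg hgen'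
  have hdetect : ∀ x ∈ I, (∀ s : Derivation R B B, s x ∈ Q) →
      algebraMap B (Localization.AtPrime Q) x ∈
        maximalIdeal (Localization.AtPrime Q) • I.map (algebraMap B (Localization.AtPrime Q)) := fun x hx h =>
    detect_of_jacobian I Q hIQ g D' hg
      (fun x hx => (hgen' x hx).imp fun w hw => ⟨fun h => hw.1 (RingHom.mem_ker.1 h), hw.2⟩)
      (fun h => hΔ' (RingHom.mem_ker.1 h)) x hx h
  have hgenf := gen_generic I Q rfl hIQ hdetect hmax f hf D (fun h => hD (by rw [h]; exact Submodule.zero_mem _))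
  have hclosed := gen_closed P rfl I hIQ f hf D hD
    (fun x hx => (hgenf x hx).imp fun w hw => ⟨fun h => hw.1 (RingHom.mem_ker.2 h), hw.2⟩)
  show Algebra.FormallySmooth R (Localization.AtPrime pA)
  refine (LeftInv.formallySmooth_localization_iff_jacobian (A := R) (B := B) (C := A) hqs pA).2
    ⟨m, f, D, fun i => hf i, fun x hx => ?_, fun h => hD ?_⟩
  · obtain ⟨z, hz, hzx⟩ := hclosed x hx
    refine ⟨z, fun h => hz ?_, hzx⟩
    show algebraMap B Λ z ∈ maximalIdeal Λ
    rw [← htow]; exact h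
  · rw [← htow]; exact h

theorem isSmoothAt_of_free [Algebra.FiniteType R A] [(RingHom.ker (algebraMap A Λ)).IsPrime]
    (hq : Algebra.IsSmoothAt R (RingHom.ker (algebraMap A Λ)))
    (hfree : Module.Free Λ (Λ ⊗[A] Ω[A⁄R])) :
    Algebra.IsSmoothAt R ((maximalIdeal Λ).comap (algebraMap A Λ)) := by
  obtain ⟨n, q, hqs⟩ := Algebra.FiniteType.iff_quotient_mvPolynomial''.1 ‹Algebra.FiniteType R A›
  let B := MvPolynomial (Fin n) R
  letI : Algebra B A := q.toRingHom.toAlgebra
  letI : Algebra B Λ := ((algebraMap A Λ).comp q.toRingHom).toAlgebra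
  haveI : IsScalarTower B A Λ := IsScalarTower.of_algebraMap_eq fun b => rfl
  haveI : IsScalarTower R B A := IsScalarTower.of_algebraMap_eq fun r => (q.commutes r).symm
  haveI : IsScalarTower R B Λ := IsScalarTower.of_algebraMap_eq fun r => by
    show algebraMap R Λ r = algebraMap A Λ (q (algebraMap R B r))
    rw [q.commutes, ← IsScalarTower.algebraMap_apply]
  haveI : Algebra.Smooth R B := ⟨inferInstance, inferInstance⟩
  exact isSmoothAt_of_free_aux (B := B) hqs hq hfree

end Groth.Agent.NeronH7
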